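import Cfsg.Agent.Lib.ShortPres.Seven.Six
import Mathlib

/-!
Presentations of alternating groups in which a given three-cycle is one of the generators.
-/

set_option autoImplicit false
set_option linter.unusedSectionVars false

namespace Cfsg.Agent.ShortPres.Joint

open Equiv Cfsg.Agent.ShortPres.Alt Cfsg.Agent.ShortPres.Seven Cfsg.Agent.ShortPres.Bound

/-- The three-cycle on the first three points. -/
def c3 {n : ℕ} (h : 4 ≤ n) : alternatingGroup (Fin n) :=
  cyc (show (⟨1, by omega⟩ : Fin n) ≠ ⟨2, by omega⟩ by simp) ⟨⟨0, by omega⟩, by simp, by simp⟩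

/-- Moving the three-cycle to the first three points. -/
theorem on_send {α : Type*} [Fintype α] [DecidableEq α] {n : ℕ} (h4 : 4 ≤ n) (hc : Fintype.card α = n) {u v : α}
    (huv : u ≠ v) (i : Rest u v) {a k : ℕ} {f : Fin a → alternatingGroup α} (hf : On f k) (j : Fin a)
    (hj : f j = cyc huv i) : ∃ f' : Fin a → alternatingGroup (Fin n), On f' k ∧ f' j = c3 h4 := by
  obtain ⟨e, he⟩ := equiv_three (α := α) (β := Fin n) (by rw [hc, Fintype.card_fin])
    ![i.1, u, v] ![⟨0, by omega⟩, ⟨1, by omega⟩, ⟨2, by omega⟩] (inj_three i.2.1 i.2.2 huv)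
    (inj_three (by simp) (by simp) (by simp))
  refine ⟨fun k => altIso e (f k), hf.congr (altIso e), ?_⟩
  show altIso e (f j) = _
  rw [hj]
  exact altIso_cyc e huv i _ _ (he 1) (he 2) (he 0)

/-- Degree four. -/
theorem on_four : ∃ f : Fin 2 → alternatingGroup (Fin 4), On f 3 ∧ f 0 = c3 (le_refl 4) := by
  have huv : (1 : Fin 4) ≠ 2 := by decide
  let i : Rest (1 : Fin 4) 2 := ⟨0, by decide⟩
  let j : Rest (1 : Fin 4) 2 := ⟨3, by decide⟩
  have hij : ∀ k : Rest (1 : Fin 4) 2, k = i ∨ k = j := by decide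
  have hne : i ≠ j := by decide
  refine ⟨![cyc huv i, cyc huv j], On.of_universal _ [FreeGroup.of 0 ^ 3, FreeGroup.of 1 ^ 3,
    (FreeGroup.of 0 * FreeGroup.of 1) ^ 2] (by simp) (fun r hr => ?_) ?_ ?_, rfl⟩
  · have hc := rels_cyc huv
    simp only [List.mem_cons, List.not_mem_nil, or_false] at hr
    rcases hr with rfl | rfl | rfl <;>
      simp only [map_pow, map_mul, FreeGroup.lift_apply_of, Matrix.cons_val_zero, Matrix.cons_val_one]
    · exact hc.cube i
    · exact hc.cube j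
    · exact hc.pair i j hne
  · rw [← MonoidHom.range_eq_top, FreeGroup.range_lift_eq_closure, eq_top_iff, ← closure_cyc huv]
    refine Subgroup.closure_mono ?_
    rintro _ ⟨k, rfl⟩
    rcases hij k with rfl | rfl
    · exact ⟨0, rfl⟩
    · exact ⟨1, rfl⟩
  · intro H _ h hR
    simp only [List.forall_mem_cons, List.not_mem_nil, false_imp_iff, implies_true, and_true, map_pow, map_mul,
      FreeGroup.lift_apply_of] at hR
    obtain ⟨h0, h1, h01⟩ := hR
    let x : Rest (1 : Fin 4) 2 → H := fun k => if k = i then h 0 else h 1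
    have xi : x i = h 0 := if_pos rfl
    have xj : x j = h 1 := if_neg hne.symm
    have hx : Rels x := by
      refine ⟨fun k => ?_, fun k l hkl => ?_⟩
      · rcases hij k with rfl | rfl
        · rw [xi]; exact h0
        · rw [xj]; exact h1
      · rcases hij k with rfl | rfl <;> rcases hij l with rfl | rfl
        · exact absurd rfl hkl
        · rw [xi, xj]; exact h01
        · rw [xi, xj]
          calc (h 1 * h 0) ^ 2 = (h 0)⁻¹ * (h 0 * h 1) ^ 2 * h 0 := by simp only [sq]; group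
            _ = 1 := by rw [h01]; group
        · exact absurd rfl hkl
    obtain ⟨φ, hφ⟩ := Alt.exists_hom huv ⟨i⟩ hx
    refine ⟨φ, fun k => ?_⟩
    fin_cases k
    · exact (hφ i).trans xi
    · exact (hφ j).trans xj

/-- Degree five. -/
theorem on_five : ∃ f : Fin 2 → alternatingGroup (Fin 5), On f 4 ∧ f 1 = c3 (show 4 ≤ 5 by norm_num) := by
  have : Fact (Nat.Prime 3) := ⟨Nat.prime_three⟩
  obtain ⟨ga, hga⟩ := Seven.exists_piece (p := 3) (by decide)
  exact on_send _ (by simp) inr_ne ⟨Sum.inl 0, by simp⟩ hga 1 rfl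

theorem on_six : ∃ f : Fin 3 → alternatingGroup (Fin 6), On f 7 ∧ f 1 = c3 (show 4 ≤ 6 by norm_num) := by
  have : Fact (Nat.Prime 3) := ⟨Nat.prime_three⟩
  obtain ⟨g0, hg0, h0⟩ := exists_piece' (p := 3) (by decide)
  have hg : flipOld (ι := Fin 1) s01 ∈ alternatingGroup _ := by
    rw [Perm.mem_alternatingGroup, sign_flipOld]; decide
  have ht : tau (ι := Fin 1) twist01 ∈ alternatingGroup _ := by
    rw [Perm.mem_alternatingGroup, sign_tau]; decide
  have hab : (Sum.inr 1 : Fin 1 ⊕ Fin 3) ≠ Sum.inr 2 := by decide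
  let i : Rest (Sum.inr 1 : Fin 1 ⊕ Fin 3) (Sum.inr 2) := ⟨Sum.inl 0, by decide⟩
  let j : Rest (Sum.inr 1 : Fin 1 ⊕ Fin 3) (Sum.inr 2) := ⟨Sum.inr 0, by decide⟩
  have hab' : (Sum.inr 0 : Fin 1 ⊕ Fin 3) ≠ Sum.inr 2 := by decide
  let i' : Rest (Sum.inr 0 : Fin 1 ⊕ Fin 3) (Sum.inr 2) := ⟨Sum.inl 0, by decide⟩
  have himg : cj (dn (ι := Fin 1) s01) (cyc hab i) = cyc hab' i' :=
    altIso_cyc (dn s01) (u := Sum.inr 1) (v := Sum.inr 2) hab i hab' i' (by decide) (by decide) (by decide)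
  have hj : cyc hab j = cyc hab i * (cyc hab' i')⁻¹ := by
    refine Subtype.ext ?_
    show swap (Sum.inr 0 : Fin 1 ⊕ Fin 3) (Sum.inr 1) * swap (Sum.inr 1) (Sum.inr 2) =
      swap (Sum.inl 0 : Fin 1 ⊕ Fin 3) (Sum.inr 1) * swap (Sum.inr 1) (Sum.inr 2) *
        (swap (Sum.inl 0 : Fin 1 ⊕ Fin 3) (Sum.inr 0) * swap (Sum.inr 0) (Sum.inr 2))⁻¹
    rw [_root_.mul_inv_rev, swap_inv, swap_inv]
    refine Equiv.ext fun x => ?_
    revert x
    decide
  have hgen : Subgroup.closure ({cyc hab i, cj (dn s01) (cyc hab i)} : Set (alternatingGroup (Fin 1 ⊕ Fin 3))) = ⊤ := by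
    rw [himg, eq_top_iff, ← closure_cyc hab, Subgroup.closure_le]
    rintro _ ⟨k, rfl⟩
    have h1 : cyc hab i ∈ Subgroup.closure ({cyc hab i, cyc hab' i'} : Set (alternatingGroup (Fin 1 ⊕ Fin 3))) :=
      Subgroup.subset_closure (Set.mem_insert _ _)
    have h2 : cyc hab' i' ∈ Subgroup.closure ({cyc hab i, cyc hab' i'} : Set (alternatingGroup (Fin 1 ⊕ Fin 3))) :=
      Subgroup.subset_closure (Set.mem_insert_of_mem _ rfl)
    have hk : k = i ∨ k = j := by
      revert k
      decide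
    rcases hk with rfl | rfl
    · exact h1
    · rw [hj]; exact mul_mem h1 (inv_mem h2)
  have hA : On ![altIso e6 g0, eP (cyc hab i)] 4 := by
    have hx : altIso e6 gX = eP (cyc hab i) := by
      rw [eP, altEmb_cyc fP hab (fP.injective.ne hab) i ⟨fP i.1, fP.injective.ne i.2.1, fP.injective.ne i.2.2⟩ rfl]
      exact altIso_cyc e6 inr_ne _ _ _ (by rfl) (by rfl) (by rfl)
    have := h0.congr (altIso e6)
    rw [show (fun j => altIso e6 (![g0, gX] j)) = ![altIso e6 g0, eP (cyc hab i)] from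
      funext fun j => by fin_cases j <;> simp [hx]] at this
    exact this
  have h := adjoin_alt_swapped (by decide : (0 : Fin 3) ≠ 1) twist01 hg ht
    ⟨⟨Sum.inl (Sum.inr 2), by decide⟩⟩ hgen hA
  rw [snoc_eq] at h
  refine on_send _ (by simp) ((fP.trans fA).injective.ne hab)
    ⟨(fP.trans fA) i.1, (fP.trans fA).injective.ne i.2.1, (fP.trans fA).injective.ne i.2.2⟩ h 1 ?_
  show iA (eP (cyc hab i)) = _
  rw [eP, iA, altEmb_comp, altEmb_cyc]
  rfl

/-- Degree at least six. -/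
theorem on_big {n : ℕ} (hn : 6 ≤ n) : ∃ f : Fin 3 → alternatingGroup (Fin n), On f 7 ∧ f 1 = c3 (show 4 ≤ n by omega) := by
  by_cases h6 : n = 6
  · subst h6; exact on_six
  obtain ⟨p, k, c, hp, hp2, hc, hn', h5⟩ := exists_data (n := n) (by omega)
  have : Fact p.Prime := ⟨hp⟩
  have hcard : p + 2 = 2 * Fintype.card (Fin k) + (c + 3) := by simpa using hc
  obtain ⟨σ, hσ, hs, hs1⟩ := exists_twist (zero_ne_one' (c := c)) (Fintype.card (Fin k)) 1
  have hg : flipOld (ι := Fin k) σ ∈ alternatingGroup _ := by rw [Perm.mem_alternatingGroup, sign_flipOld, hs]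
  have ht : tau (ι := Fin k) hσ ∈ alternatingGroup _ := by rw [Perm.mem_alternatingGroup, sign_tau, hs]
  obtain ⟨a, b, hab, i, o₂, hgen, hfix⟩ := exists_o1 (ι := Fin k) zero_ne_one' hσ ⟨2, by omega⟩
    (by simp [Fin.ext_iff]) (by simp [Fin.ext_iff]) (Or.inr (by simpa using h5 h6))
  obtain ⟨ga, hA⟩ := piece_at hp2 hcard hab i
  have hcube : cyc hab i ^ 3 = 1 := (rels_cyc hab).cube i
  have h := adjoin_alt_fixed zero_ne_one' hσ hg ht rest_all hgen hfix hcube hA
  rw [snoc_eq] at h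
  refine on_send _ (by rw [card_all, hn']) ((fP.trans fA).injective.ne hab)
    ⟨(fP.trans fA) i.1, (fP.trans fA).injective.ne i.2.1, (fP.trans fA).injective.ne i.2.2⟩ h 1 ?_
  show iA (eP (cyc hab i)) = _
  rw [eP, iA, altEmb_comp, altEmb_cyc]
  rfl

end Cfsg.Agent.ShortPres.Joint
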