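import Cfsg.Agent.Lib.ShortPres.SLBounded
import Cfsg.Agent.Lib.ShortPres.Tracked
import Cfsg.Agent.Lib.ShortPres.Seven.Basic
import Mathlib

/-!
The presentation of `SL₃` with its three-cycle shared with another presented group.
-/

set_option autoImplicit false
set_option linter.unusedSectionVars false

namespace Cfsg.Agent.ShortPres.Joint

open Monoid Cfsg.Agent.ShortPres.Bound Cfsg.Agent.ShortPres.Three Cfsg.Agent.Classical.GL2 Matrix
  Cfsg.Agent.SimpleFacts.SLnRootLifts Cfsg.Agent.SimpleFacts.SLnCosets Cfsg.Agent.Chevalley.SingleBond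
open scoped MatrixGroups commutatorElement

variable {F : Type*} [Field F]

/-- The three-cycle on the three coordinates. -/
def sig3 : alternatingGroup (Fin 3) := Alt.cyc (show (1 : Fin 3) ≠ 2 by decide) ⟨0, by decide⟩

theorem sig3_apply : sig3.1 0 = 1 ∧ sig3.1 1 = 2 ∧ sig3.1 2 = 0 := by decide

/-- The shared element. -/
def P3 : SL(3, F) := Linear.pm sig3

/-- The signs that make the three-cycle a permutation matrix. -/
def dl3 : SL(3, F) := ⟨!![-1, 0, 0; 0, 1, 0; 0, 0, -1], by simp [Matrix.det_fin_three]⟩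

theorem conj_sM : MulAut.conj (dl3 (F := F)) sM = P3 := by
  rw [MulAut.conj_apply, mul_inv_eq_iff_eq_mul]
  apply mat3_ext
  have hP : ((P3 : SL(3, F)) : Matrix (Fin 3) (Fin 3) F) = !![0, 0, 1; 1, 0, 0; 0, 1, 0] := by
    ext i j
    show (sig3.1⁻¹.permMatrix F) i j = _
    fin_cases i <;> fin_cases j <;>
      simp [Equiv.Perm.permMatrix, PEquiv.toMatrix_apply, sig3, Alt.cyc, Equiv.swap_apply_def]
  rw [Matrix.SpecialLinearGroup.coe_mul, Matrix.SpecialLinearGroup.coe_mul, coe_sM, hP,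
    show (dl3 (F := F)).1 = !![-1, 0, 0; 0, 1, 0; 0, 0, -1] from rfl]
  ext i j
  fin_cases i <;> fin_cases j <;> simp [Matrix.mul_apply, Fin.sum_univ_three]

/-- The four generators. -/
def gens3 (z : Fˣ) : Fin 4 → SL(3, F) := fun i => MulAut.conj dl3 (![uM, gM z, tM, sM] i)

theorem gens3_three (z : Fˣ) : gens3 z 3 = P3 := conj_sM

section hom

variable {p d : ℕ} [Fact p.Prime] [Algebra (ZMod p) F] (B : Module.Basis (Fin d) (ZMod p) F)

/-- The universal property on the four matrices. -/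
theorem exists_hom_gens [Finite F] [CharP F p] {z : Fˣ} (hz : ∀ x : Fˣ, x ∈ Subgroup.zpowers z)
    (hd3 : Module.finrank (ZMod p) F = d) (hd : 0 < d) (hB : ∀ i : Fin d, B i = ((z : F) ^ 2) ^ (i : ℕ))
    {n m : ℕ} (hn : (z : F) ^ n = -1)
    {H₀ : Type} [Group H₀] {u g t s : H₀} (H : Hyp3 B n m z u g t s) :
    ∃ Φ : SL(3, F) →* H₀, Φ uM = u ∧ Φ (gM z) = g ∧ Φ tM = t ∧ Φ sM = s := by
  obtain ⟨Φ, hΦ⟩ := exists_hom3 hz hd3 hd hB hn H
  have hone : xx B u g t (1 : F) = u := elt_one hd hB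
  have h01 : ∀ c, Φ (B01 (uniSL c)) = xx B u g t c := fun c => by
    rw [← (T_blocks c).1, hΦ 0 1 (by decide)]; rfl
  have h10 : ∀ c, Φ (B01 (lowSL c)) = t * xx B u g t (-c) * t⁻¹ := fun c => by
    rw [← (T_blocks c).2.1, hΦ 1 0 (by decide)]; rfl
  have h12 : ∀ c, Φ (B12 (uniSL c)) = s * xx B u g t c * s⁻¹ := fun c => by
    rw [← (T_blocks c).2.2.1, hΦ 1 2 (by decide)]; rfl
  have h21 : ∀ c, Φ (B12 (lowSL c)) = s * (t * xx B u g t (-c) * t⁻¹) * s⁻¹ := fun c => by
    rw [← (T_blocks c).2.2.2, hΦ 2 1 (by decide)]; rfl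
  have ht : Φ tM = t := by
    rw [tM, st_eq, map_mul, map_mul, map_mul, map_mul, h01, h10, neg_neg, hone]
    exact H.tu.symm
  have ht' : Φ (B12 stEl) = s * t * s⁻¹ := by
    rw [st_eq, map_mul, map_mul, map_mul, map_mul, h12, h21, neg_neg, hone]
    calc s * u * s⁻¹ * (s * (t * u * t⁻¹) * s⁻¹) * (s * u * s⁻¹) = s * (u * (t * u * t⁻¹) * u) * s⁻¹ := by group
      _ = _ := by rw [← H.tu]
  have hh : Φ (B01 (shEl z)) = hEl g t := by
    have e1 : Φ (B01 (shEl z)) * Φ (B01 stEl) = hEl g t * t := by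
      rw [← map_mul, ← map_mul, sh_st_eq, map_mul, map_mul, map_mul, map_mul, h01, h10, neg_neg]
      exact H.ht.symm
    rw [← tM, ht] at e1
    exact mul_right_cancel e1
  have hh' : Φ (B12 (shEl z)) = s * hEl g t * s⁻¹ := by
    have e1 : Φ (B12 (shEl z)) * Φ (B12 stEl) = s * hEl g t * s⁻¹ * (s * t * s⁻¹) := by
      rw [← map_mul, ← map_mul, sh_st_eq, map_mul, map_mul, map_mul, map_mul, h12, h21, neg_neg]
      calc _ = s * (xx B u g t (z : F) * (t * xx B u g t (z : F)⁻¹ * t⁻¹) * xx B u g t (z : F)) * s⁻¹ := by group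
        _ = _ := by rw [← H.ht]; group
    rw [ht'] at e1
    exact mul_right_cancel e1
  refine ⟨Φ, ?_, ?_, ht, ?_⟩
  · rw [uM, h01, hone]
  · rw [gM, map_mul, hh, hh', ← H.rg]
  · rw [sM, map_mul, ht', ← tM, ht, ← H.sw]

theorem relators_free {G : Type*} [Group G] (n m : ℕ) (z : Fˣ) (h : Fin 4 → G) :
    (relators B n m z (FreeGroup.of (0 : Fin 4)) (FreeGroup.of 1) (FreeGroup.of 2) (FreeGroup.of 3)).map
      (FreeGroup.lift h) = relators B n m z (h 0) (h 1) (h 2) (h 3) := by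
  simp only [relators_map, FreeGroup.lift_apply_of]

theorem relators_cases {G : Type*} [Group G] (n m : ℕ) (z : Fˣ) (u g t s r : G)
    (h : r ∈ relators B n m z u g t s) : r ∈ (relators B n m z u g t s).eraseIdx 8 ∨ r = s * s * s := by
  simp only [relators, List.eraseIdx_cons_succ, List.eraseIdx_cons_zero, List.mem_cons, List.not_mem_nil,
    or_false] at h ⊢
  tauto

end hom

variable (F) in
/-- Thirteen relations, once the shared element has order dividing three. -/
theorem three_data [Fintype F] : ∃ (z : Fˣ) (R : List (FreeGroup (Fin 4))), (∀ x : Fˣ, x ∈ Subgroup.zpowers z) ∧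
    R.length ≤ 13 ∧ (∀ r ∈ R, FreeGroup.lift (gens3 z) r = 1) ∧ Subgroup.closure (Set.range (gens3 z)) = ⊤ ∧
    ∀ (H : Type) [Group H] (h : Fin 4 → H), (∀ r ∈ R, FreeGroup.lift h r = 1) → h 3 * h 3 * h 3 = 1 →
      ∃ β : SL(3, F) →* H, ∀ i, β (gens3 z i) = h i := by
  classical
  obtain ⟨p, hchar⟩ := CharP.exists F
  have : Fact p.Prime := ⟨CharP.char_is_prime F p⟩
  let : Algebra (ZMod p) F := ZMod.algebra F p
  obtain ⟨z, hz⟩ := IsCyclic.exists_generator (α := Fˣ)
  have hd0 : 0 < Module.finrank (ZMod p) F := Module.finrank_pos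
  have hgood := Cfsg.Agent.ShortPres.sq_generator_good (p := p) hz
  obtain ⟨B, hB⟩ := Cfsg.Agent.ShortPres.exists_basis (p := p) (e := (z : F) ^ 2) hgood
  have hlog : ∀ x : F, x ≠ 0 → ∃ n : ℕ, (z : F) ^ n = x := fun x hx => by
    obtain ⟨n, hn⟩ := mem_powers_iff_mem_zpowers.2 (hz (Units.mk0 x hx))
    exact ⟨n, by rw [← Units.val_pow_eq_pow_val]; exact congrArg Units.val hn⟩
  obtain ⟨n, hn⟩ := hlog (-1) (by simp)
  obtain ⟨m, hm⟩ : ∃ m : ℕ, 3 ≤ Module.finrank (ZMod p) F → (z : F) ^ m = (z : F) ^ 2 + 1 := by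
    by_cases h3 : 3 ≤ Module.finrank (ZMod p) F
    · have hne : (z : F) ^ 2 + 1 ≠ 0 := fun h => hgood 1 one_pos (by omega) (by
        rw [eq_neg_of_add_eq_zero_left h, pow_one]
        exact map_neg (frobenius F p) 1 |>.trans (by rw [map_one]))
      obtain ⟨m, hm⟩ := hlog _ hne
      exact ⟨m, fun _ => hm⟩
    · exact ⟨0, fun h => absurd h h3⟩
  let l := relators B n m z (FreeGroup.of (0 : Fin 4)) (FreeGroup.of 1) (FreeGroup.of 2) (FreeGroup.of 3)
  refine ⟨z, l.eraseIdx 8, hz, ?_, fun r hr => ?_, ?_, fun H _ h hR hs => ?_⟩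
  · rw [List.length_eraseIdx]
    simp [l, relators]
  · have h14 : ∀ x ∈ relators B n m z (uM : SL(3, F)) (gM z) tM sM, x = 1 :=
      (hyp_iff B n m z _ _ _ _).2 (hyp_M z hB hn hm)
    have h' : ∀ x ∈ relators B n m z (gens3 z 0) (gens3 z 1) (gens3 z 2) (gens3 z 3), x = 1 := by
      intro x hx
      have e := relators_map B (MulAut.conj (dl3 (F := F))).toMonoidHom n m z (uM : SL(3, F)) (gM z) tM sM
      rw [show relators B n m z (gens3 z 0) (gens3 z 1) (gens3 z 2) (gens3 z 3) = _ from e.symm] at hx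
      obtain ⟨y, hy, rfl⟩ := List.mem_map.1 hx
      rw [h14 y hy, map_one]
    exact h' _ (relators_free B n m z (gens3 z) ▸ List.mem_map_of_mem (List.mem_of_mem_eraseIdx hr))
  · let C : SL(3, F) →* SL(3, F) := (MulAut.conj dl3).toMonoidHom
    have hr : Set.range (gens3 z) = C '' Set.range (![uM, gM z, tM, sM] : Fin 4 → SL(3, F)) := by
      rw [← Set.range_comp]; rfl
    rw [hr, ← MonoidHom.map_closure]
    refine eq_top_iff.2 fun x _ => ?_
    suffices h : Subgroup.closure (Set.range (![uM, gM z, tM, sM] : Fin 4 → SL(3, F))) = ⊤ by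
      rw [h]
      exact ⟨(MulAut.conj dl3).symm x, trivial, (MulAut.conj dl3).apply_symm_apply x⟩
    set K := Subgroup.closure (Set.range (![uM, gM z, tM, sM] : Fin 4 → SL(3, F)))
    refine Classical.Linear.eq_top_of_transvection_mem _ fun i j hij c => ?_
    have hk : ∀ k : Fin 4, (![uM, gM z, tM, sM] : Fin 4 → SL(3, F)) k ∈ K := fun k =>
      Subgroup.subset_closure ⟨k, rfl⟩
    rw [← T_eq hij, ← root_M z hB i j hij c]
    have e : K.subtype (root B ⟨_, hk 0⟩ ⟨_, hk 1⟩ ⟨_, hk 2⟩ ⟨_, hk 3⟩ i j c) = root B uM (gM z) tM sM i j c := by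
      rw [map_root]; rfl
    rw [← e]
    exact SetLike.coe_mem _
  · have hyp : Hyp3 B n m z (h 0) (h 1) (h 2) (h 3) := by
      refine (hyp_iff B n m z _ _ _ _).1 fun r hr => ?_
      rw [← relators_free B n m z h] at hr
      obtain ⟨r', hr', rfl⟩ := List.mem_map.1 hr
      rcases relators_cases B n m z _ _ _ _ r' hr' with h' | h'
      · exact hR r' h'
      · rw [h', map_mul, map_mul, FreeGroup.lift_apply_of, hs]
    obtain ⟨Φ, e0, e1, e2, e3⟩ := exists_hom_gens B hz rfl hd0 hB hn hyp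
    refine ⟨Φ.comp (MulAut.conj dl3).symm.toMonoidHom, fun i => ?_⟩
    show Φ ((MulAut.conj dl3).symm (MulAut.conj dl3 _)) = _
    rw [MulEquiv.symm_apply_apply]
    fin_cases i <;> assumption

theorem eval_glue {A B' K : Type*} [Group A] [Group B'] [Group K] {a b c : ℕ} (fA : Fin a → A) (fB : Fin b → B')
    (lett : Fin b → Fin (a + c)) (sec : Coprod A B' → Coprod (FreeGroup (Fin a)) (FreeGroup (Fin b)))
    (hsec : ∀ e, Coprod.map (FreeGroup.lift fA) (FreeGroup.lift fB) (sec e) = e)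
    (α : A →* K) (β : B' →* K) (h : Fin (a + c) → K) (ha : ∀ i, h (Fin.castAdd c i) = α (fA i))
    (hb : ∀ i, h (lett i) = β (fB i)) :
    (∀ r, FreeGroup.lift h (FreeGroup.map (Fin.castAdd c) r) = α (FreeGroup.lift fA r)) ∧
      (∀ r, FreeGroup.lift h (FreeGroup.map lett r) = β (FreeGroup.lift fB r)) ∧
      ∀ e, FreeGroup.lift h (Coprod.lift (FreeGroup.map (Fin.castAdd c)) (FreeGroup.map lett) (sec e)) =
        Coprod.lift α β e := by
  have e1 : (FreeGroup.lift h).comp (FreeGroup.map (Fin.castAdd c)) = α.comp (FreeGroup.lift fA) :=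
    FreeGroup.ext_hom _ _ fun i => by simp [ha]
  have e2 : (FreeGroup.lift h).comp (FreeGroup.map lett) = β.comp (FreeGroup.lift fB) :=
    FreeGroup.ext_hom _ _ fun i => by simp [hb]
  have e3 : (FreeGroup.lift h).comp (Coprod.lift (FreeGroup.map (Fin.castAdd c)) (FreeGroup.map lett)) =
      (Coprod.lift α β).comp (Coprod.map (FreeGroup.lift fA) (FreeGroup.lift fB)) := by
    refine Coprod.hom_ext ?_ ?_
    · rw [MonoidHom.comp_assoc, Coprod.lift_comp_inl, e1, MonoidHom.comp_assoc, Coprod.map_comp_inl,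
        ← MonoidHom.comp_assoc, Coprod.lift_comp_inl]
    · rw [MonoidHom.comp_assoc, Coprod.lift_comp_inr, e2, MonoidHom.comp_assoc, Coprod.map_comp_inr,
        ← MonoidHom.comp_assoc, Coprod.lift_comp_inr]
  exact ⟨fun r => DFunLike.congr_fun e1 r, fun r => DFunLike.congr_fun e2 r,
    fun e => (DFunLike.congr_fun e3 (sec e)).trans (congrArg _ (hsec e))⟩

/-- Gluing to `SL₃`, the shared element being counted once. -/
theorem glue_three [Fintype F] {G A : Type*} [Group G] [Group A] {a k : ℕ} {fA : Fin a → A}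
    (hA : Seven.On fA k) (j : Fin a) (hj : fA j * fA j * fA j = 1) (iA : A →* G) (iB : SL(3, F) →* G)
    (hs : iA (fA j) = iB P3) (hgen : iA.range ⊔ iB.range = ⊤) (E : List (Coprod A (SL(3, F))))
    (hE : ∀ e ∈ E, Coprod.lift iA iB e = 1)
    (hu : ∀ (H : Type) [Group H] (α : A →* H) (β : SL(3, F) →* H), α (fA j) = β P3 →
      (∀ e ∈ E, Coprod.lift α β e = 1) → ∃ φ : G →* H, φ.comp iA = α ∧ φ.comp iB = β) :
    PresN G (a + 3) (k + 13 + E.length) := by
  obtain ⟨RA, lA, tA, sA, nA⟩ := hA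
  obtain ⟨z, RB, -, lB, tB, cB, uB⟩ := three_data F
  have sB : Function.Surjective (FreeGroup.lift (gens3 z)) := by
    rw [← MonoidHom.range_eq_top, FreeGroup.range_lift_eq_closure, cB]
  let lett : Fin 4 → Fin (a + 3) := ![Fin.natAdd a 0, Fin.natAdd a 1, Fin.natAdd a 2, Fin.castAdd 3 j]
  let jA : FreeGroup (Fin a) →* FreeGroup (Fin (a + 3)) := FreeGroup.map (Fin.castAdd 3)
  let jB : FreeGroup (Fin 4) →* FreeGroup (Fin (a + 3)) := FreeGroup.map lett
  obtain ⟨sec, hsec⟩ := (coprod_map_surjective sA sB).hasRightInverse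
  let f : Fin (a + 3) → G := Fin.append (fun i => iA (fA i)) (fun i => iB (gens3 z i.castSucc))
  have hfl : ∀ i, f (lett i) = iB (gens3 z i) := by
    intro i
    fin_cases i
    · exact Fin.append_right _ _ 0
    · exact Fin.append_right _ _ 1
    · exact Fin.append_right _ _ 2
    · exact (Fin.append_left _ _ j).trans (hs.trans (congrArg iB (gens3_three z).symm))
  obtain ⟨kA, kB, kE⟩ := eval_glue fA (gens3 z) lett sec hsec iA iB f (fun i => Fin.append_left _ _ i) hfl
  refine PresN.of_universal f (RA.map jA ++ RB.map jB ++ E.map fun e => Coprod.lift jA jB (sec e))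
    (by simp; omega) (fun r hr => ?_) ?_ ?_
  · simp only [List.mem_append, List.mem_map] at hr
    rcases hr with (⟨r, h, rfl⟩ | ⟨r, h, rfl⟩) | ⟨e, h, rfl⟩
    · rw [kA, tA r h, map_one]
    · rw [kB, tB r h, map_one]
    · rw [kE, hE e h]
  · rw [← MonoidHom.range_eq_top, eq_top_iff, ← hgen, sup_le_iff]
    constructor
    · rintro _ ⟨x, rfl⟩
      obtain ⟨r, rfl⟩ := sA x
      exact ⟨jA r, kA r⟩
    · rintro _ ⟨x, rfl⟩
      obtain ⟨r, rfl⟩ := sB x
      exact ⟨jB r, kB r⟩
  · intro H _ h hR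
    obtain ⟨α, hα⟩ := exists_hom_of fA RA sA nA (fun i => h (Fin.castAdd 3 i)) fun r hr => by
      rw [show FreeGroup.lift (fun i => h (Fin.castAdd 3 i)) = (FreeGroup.lift h).comp jA from
        FreeGroup.ext_hom _ _ fun i => by simp [jA], MonoidHom.comp_apply]
      exact hR _ (List.mem_append_left _ (List.mem_append_left _ (List.mem_map_of_mem hr)))
    have h3 : h (lett 3) = α (fA j) := (hα j).symm
    obtain ⟨β, hβ⟩ := uB H (fun i => h (lett i)) (fun r hr => by
      rw [show FreeGroup.lift (fun i => h (lett i)) = (FreeGroup.lift h).comp jB from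
        FreeGroup.ext_hom _ _ fun i => by simp [jB], MonoidHom.comp_apply]
      exact hR _ (List.mem_append_left _ (List.mem_append_right _ (List.mem_map_of_mem hr))))
      (by rw [h3, ← map_mul, ← map_mul, hj, map_one])
    obtain ⟨-, -, khE⟩ := eval_glue fA (gens3 z) lett sec hsec α β h (fun i => (hα i).symm) (fun i => (hβ i).symm)
    have hαβ : α (fA j) = β P3 := by rw [← gens3_three z, hβ, h3]
    obtain ⟨φ, hφA, hφB⟩ := hu H α β hαβ fun e he => by
      rw [← khE]
      exact hR _ (List.mem_append_right _ (List.mem_map.2 ⟨e, he, rfl⟩))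
    refine ⟨φ, fun i => ?_⟩
    induction i using Fin.addCases with
    | left i => simp [f, ← hα, ← hφA]
    | right i =>
      have hb := hβ i.castSucc
      have el : lett i.castSucc = Fin.natAdd a i := by fin_cases i <;> rfl
      rw [el] at hb
      simp [f, ← hb, ← hφB]

end Cfsg.Agent.ShortPres.Joint
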