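import Cfsg.Agent.Lib.ShortPres.Joint.Swapped
import Cfsg.Agent.Lib.ShortPres.Joint.Alt
import Cfsg.Agent.Lib.ShortPres.Joint.Glue
import Cfsg.Agent.Lib.ShortPres.PSLBounded
import Mathlib

/-!
An alternating group and `SL₃` sharing a three-cycle give `SL_n` with few relations.
-/

set_option autoImplicit false
set_option linter.unusedSectionVars false

namespace Cfsg.Agent.ShortPres.Joint

open Equiv Monoid Matrix Cfsg.Agent.ShortPres.Bound Cfsg.Agent.ShortPres.Linear
  Cfsg.Agent.SimpleFacts.SLnRootLifts Cfsg.Agent.SimpleFacts.SLnCosets Cfsg.Agent.SimpleFacts.SLnSystem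
  Cfsg.Agent.Classical.GL2 Cfsg.Agent.Chevalley.SingleBond
open scoped commutatorElement MatrixGroups

section perms

variable {α : Type*} [Fintype α] [DecidableEq α]

theorem inj_four {β : Type*} {x y z w : β} (h1 : x ≠ y) (h2 : x ≠ z) (h3 : x ≠ w) (h4 : y ≠ z) (h5 : y ≠ w)
    (h6 : z ≠ w) : Function.Injective ![x, y, z, w] := by
  intro a b h
  fin_cases a <;> fin_cases b <;> first
    | rfl
    | (simp at h; first
        | exact absurd h h1 | exact absurd h.symm h1 | exact absurd h h2 | exact absurd h.symm h2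
        | exact absurd h h3 | exact absurd h.symm h3 | exact absurd h h4 | exact absurd h.symm h4
        | exact absurd h h5 | exact absurd h.symm h5 | exact absurd h h6 | exact absurd h.symm h6)

/-- An even permutation with three prescribed images, the first two up to order. -/
theorem exists_three' {a b c x y w : α} (hab : a ≠ b) (hac : a ≠ c) (hbc : b ≠ c)
    (hxy : x ≠ y) (hxw : x ≠ w) (hyw : y ≠ w) : ∃ g : alternatingGroup α,
      g.1 c = w ∧ ((g.1 a = x ∧ g.1 b = y) ∨ (g.1 a = y ∧ g.1 b = x)) := by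
  obtain ⟨π, hπ⟩ := Alt.exists_send ![a, b, c] ![x, y, w] (Seven.inj_three hab hac hbc) (Seven.inj_three hxy hxw hyw)
  have ha : π a = x := hπ 0
  have hb : π b = y := hπ 1
  have hc : π c = w := hπ 2
  rcases Int.units_eq_one_or (Perm.sign π) with e | e
  · exact ⟨⟨π, Perm.mem_alternatingGroup.2 e⟩, hc, Or.inl ⟨ha, hb⟩⟩
  · refine ⟨⟨π * swap a b, Perm.mem_alternatingGroup.2 (by rw [map_mul, e, Perm.sign_swap hab]; decide)⟩, ?_,
      Or.inr ⟨?_, ?_⟩⟩
    · show π (swap a b c) = w
      rw [swap_apply_of_ne_of_ne hac.symm hbc.symm, hc]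
    · show π (swap a b a) = y
      rw [swap_apply_left, hb]
    · show π (swap a b b) = x
      rw [swap_apply_right, ha]

/-- An even permutation with four prescribed images, the last two up to order. -/
theorem exists_four' {a b c d x y w v : α} (hab : a ≠ b) (hac : a ≠ c) (hbc : b ≠ c) (had : a ≠ d) (hbd : b ≠ d)
    (hcd : c ≠ d) (hxy : x ≠ y) (hxw : x ≠ w) (hyw : y ≠ w) (hxv : x ≠ v) (hyv : y ≠ v) (hwv : w ≠ v) :
    ∃ g : alternatingGroup α, g.1 a = x ∧ g.1 b = y ∧ ((g.1 c = w ∧ g.1 d = v) ∨ (g.1 c = v ∧ g.1 d = w)) := by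
  obtain ⟨π, hπ⟩ := Alt.exists_send ![a, b, c, d] ![x, y, w, v] (inj_four hab hac had hbc hbd hcd)
    (inj_four hxy hxw hxv hyw hyv hwv)
  have ha : π a = x := hπ 0
  have hb : π b = y := hπ 1
  have hc : π c = w := hπ 2
  have hd : π d = v := hπ 3
  rcases Int.units_eq_one_or (Perm.sign π) with e | e
  · exact ⟨⟨π, Perm.mem_alternatingGroup.2 e⟩, ha, hb, Or.inl ⟨hc, hd⟩⟩
  · refine ⟨⟨π * swap c d, Perm.mem_alternatingGroup.2 (by rw [map_mul, e, Perm.sign_swap hcd]; decide)⟩, ?_, ?_,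
      Or.inr ⟨?_, ?_⟩⟩
    · show π (swap c d a) = x
      rw [swap_apply_of_ne_of_ne hac had, ha]
    · show π (swap c d b) = y
      rw [swap_apply_of_ne_of_ne hbc hbd, hb]
    · show π (swap c d c) = v
      rw [swap_apply_left, hd]
    · show π (swap c d d) = w
      rw [swap_apply_right, hc]

end perms

/-- The double transposition exchanging the two pairs' entries. -/
def T4 : alternatingGroup (Fin 4) := ⟨swap 0 1 * swap 2 3, Perm.mem_alternatingGroup.2 (by decide)⟩

/-- The double transposition exchanging the two pairs. -/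
def G4 : alternatingGroup (Fin 4) := ⟨swap 0 2 * swap 1 3, Perm.mem_alternatingGroup.2 (by decide)⟩

theorem rel4 : T4 * T4 = 1 ∧ G4 * G4 = 1 ∧ T4 * G4 = G4 * T4 := by decide

section two

variable {F : Type*} [Field F]

theorem sw_uni (c : F) : sw (uniSL c) = lowSL c ∧ sw (lowSL c) = uniSL c := by
  constructor <;>
    exact mat_ext (by ext i j; fin_cases i <;> fin_cases j <;> simp [coe_sw, coe_uniSL, coe_lowSL])

/-- The two root groups generate. -/
theorem closure_roots : Subgroup.closure (Set.range (uniSL : F → SL(2, F)) ∪ Set.range lowSL) = ⊤ := by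
  refine Classical.Linear.eq_top_of_transvection_mem _ fun i j hij c => Subgroup.subset_closure ?_
  fin_cases i <;> fin_cases j <;> first | exact absurd rfl hij | skip
  · refine Or.inl ⟨c, mat_ext ?_⟩
    rw [coe_uniSL]
    ext a b; fin_cases a <;> fin_cases b <;> simp [Matrix.SpecialLinearGroup.transvection, Matrix.transvection]
  · refine Or.inr ⟨c, mat_ext ?_⟩
    rw [coe_lowSL]
    ext a b; fin_cases a <;> fin_cases b <;> simp [Matrix.SpecialLinearGroup.transvection, Matrix.transvection]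

/-- Homomorphisms agreeing on the two root groups are equal. -/
theorem hom_ext2 {G : Type*} [Group G] {f g : SL(2, F) →* G} (h1 : ∀ c, f (uniSL c) = g (uniSL c))
    (h2 : ∀ c, f (lowSL c) = g (lowSL c)) (X : SL(2, F)) : f X = g X := by
  suffices h : f.eqLocus g = ⊤ from (h ▸ Subgroup.mem_top X : X ∈ f.eqLocus g)
  rw [eq_top_iff, ← closure_roots, Subgroup.closure_le]
  rintro _ (⟨c, rfl⟩ | ⟨c, rfl⟩)
  · exact h1 c
  · exact h2 c

/-- Commutation of two images, from generators. -/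
theorem commute_closure {S H : Type*} [Group S] [Group H] {T : Set S} (hT : Subgroup.closure T = ⊤) (f g : S →* H)
    (h : ∀ s ∈ T, ∀ t ∈ T, Commute (f s) (g t)) (X Y : S) : Commute (f X) (g Y) := by
  have h1 : ∀ t ∈ T, ∀ X, Commute (f X) (g t) := fun t ht X => by
    have : Subgroup.closure T ≤ (Subgroup.centralizer ({g t} : Set H)).comap f := by
      rw [Subgroup.closure_le]
      exact fun s hs => Subgroup.mem_centralizer_singleton_iff.2 (h s hs t ht).eq
    exact Subgroup.mem_centralizer_singleton_iff.1 (this (hT ▸ Subgroup.mem_top X))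
  have : Subgroup.closure T ≤ (Subgroup.centralizer ({f X} : Set H)).comap g := by
    rw [Subgroup.closure_le]
    exact fun t ht => Subgroup.mem_centralizer_singleton_iff.2 (h1 t ht X).symm.eq
  exact (show Commute (g Y) (f X) from
    Subgroup.mem_centralizer_singleton_iff.1 (this (hT ▸ Subgroup.mem_top Y))).symm

end two

variable {F : Type*} [Field F] [Fintype F]

set_option maxHeartbeats 1600000 in
/-- The general count. -/
theorem pres_core {n : ℕ} (h4 : 4 ≤ n) {a k : ℕ} {f : Fin a → alternatingGroup (Fin n)} (hf : Seven.On f k)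
    (j : Fin a) (hj : f j = c3 h4) (S : List (alternatingGroup (Fin (n - 2))))
    (hS : Subgroup.closure {x | x ∈ S} = ⊤) :
    PresN (SpecialLinearGroup (Fin n) F) (a + 3) (k + 13 + (2 + S.length + if 6 ≤ n then 0 else 1)) := by
  classical
  obtain ⟨v, hv⟩ := exists_swapped F
  let e : Fin 3 ↪ Fin n := ⟨fun i => ⟨i, by omega⟩, fun i j h => by simpa [Fin.ext_iff] using h⟩
  obtain ⟨iB, hiB⟩ := exists_block (F := F) (β := Fin 3) (by simp) e
  let iA : alternatingGroup (Fin n) →* SpecialLinearGroup (Fin n) F := pm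
  have he : ∀ {i j : Fin 3}, i ≠ j → e i ≠ e j := fun h => e.injective.ne h
  let p0 : Fin n := ⟨0, by omega⟩
  let p1 : Fin n := ⟨1, by omega⟩
  let p2 : Fin n := ⟨2, by omega⟩
  let p3 : Fin n := ⟨3, by omega⟩
  have d01 : p0 ≠ p1 := by simp [p0, p1]
  have d02 : p0 ≠ p2 := by simp [p0, p2]
  have d12 : p1 ≠ p2 := by simp [p1, p2]
  have d03 : p0 ≠ p3 := by simp [p0, p3]
  have d13 : p1 ≠ p3 := by simp [p1, p3]
  have d23 : p2 ≠ p3 := by simp [p2, p3]
  set cc := c3 h4
  have hc0 : cc.1 p0 = p1 := by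
    show (swap p0 p1 * swap p1 p2) p0 = p1
    simp [swap_apply_def, d01, d02]
  have hc1 : cc.1 p1 = p2 := by
    show (swap p0 p1 * swap p1 p2) p1 = p2
    simp [swap_apply_def, d02.symm, d12.symm]
  have hc2 : cc.1 p2 = p0 := by
    show (swap p0 p1 * swap p1 p2) p2 = p0
    simp [swap_apply_def, d01.symm, d12.symm]
  -- the two involutions
  let e4 : Fin 4 ↪ Fin n := ⟨fun i => ⟨i, by omega⟩, fun i j h => by simpa [Fin.ext_iff] using h⟩
  set t0 := Alt.altEmb e4 T4
  set g0 := Alt.altEmb e4 G4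
  have t_p0 : t0.1 p0 = p1 := Alt.altEmb_apply e4 T4 0
  have t_p1 : t0.1 p1 = p0 := Alt.altEmb_apply e4 T4 1
  have g_p0 : g0.1 p0 = p2 := Alt.altEmb_apply e4 G4 0
  have g_p1 : g0.1 p1 = p3 := Alt.altEmb_apply e4 G4 1
  have g_p2 : g0.1 p2 = p0 := Alt.altEmb_apply e4 G4 2
  have g_p3 : g0.1 p3 = p1 := Alt.altEmb_apply e4 G4 3
  have tt : t0 * t0 = 1 := by
    rw [← map_mul, rel4.1, map_one]
  have gg : g0 * g0 = 1 := by
    rw [← map_mul, rel4.2.1, map_one]
  have tg : t0 * g0 = g0 * t0 := by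
    rw [← map_mul, ← map_mul, rel4.2.2]
  -- the stabiliser
  let eS : Fin (n - 2) ↪ Fin n := ⟨fun i => ⟨i + 2, by omega⟩, fun i j h => by simpa [Fin.ext_iff] using h⟩
  have heS : ∀ g, (Alt.altEmb eS g).1 p0 = p0 ∧ (Alt.altEmb eS g).1 p1 = p1 := fun g =>
    ⟨Alt.altEmb_fix _ _ (by rintro ⟨w, hw⟩; have := congrArg Fin.val hw; change w.1 + 2 = 0 at this; omega),
      Alt.altEmb_fix _ _ (by rintro ⟨w, hw⟩; have := congrArg Fin.val hw; change w.1 + 2 = 1 at this; omega)⟩
  -- the subgroup on the first two coordinates, inside `SL_n`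
  have hT01 : ∀ c, iB (B01 (uniSL c)) = T p0 p1 c := fun c => by
    rw [← (Three.T_blocks c).1]; exact hiB 0 1 (by decide) c
  have hT10 : ∀ c, iB (B01 (lowSL c)) = T p1 p0 c := fun c => by
    rw [← (Three.T_blocks c).2.1]; exact hiB 1 0 (by decide) c
  have hcj : ∀ (g : alternatingGroup (Fin n)) x y, g.1 p0 = x → g.1 p1 = y → ∀ c,
      iA g * iB (B01 (uniSL c)) * (iA g)⁻¹ = T x y c ∧ iA g * iB (B01 (lowSL c)) * (iA g)⁻¹ = T y x c := by
    intro g x y hx hy c
    rw [hT01, hT10, pm_conj g d01, pm_conj g d01.symm, hx, hy]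
    exact ⟨rfl, rfl⟩
  have hfix : ∀ g : alternatingGroup (Fin n), g.1 p0 = p0 → g.1 p1 = p1 → ∀ X,
      Commute (iA g) (iB (B01 X)) := fun g h0 h1 X => by
    have := hom_ext2 (f := (MulAut.conj (iA g)).toMonoidHom.comp (iB.comp B01)) (g := iB.comp B01)
      (fun c => ((hcj g _ _ h0 h1 c).1).trans (hT01 c).symm) (fun c => ((hcj g _ _ h0 h1 c).2).trans (hT10 c).symm) X
    exact mul_inv_eq_iff_eq_mul.1 this
  have hflip : ∀ g : alternatingGroup (Fin n), g.1 p0 = p1 → g.1 p1 = p0 → ∀ X,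
      iA g * iB (B01 X) * (iA g)⁻¹ = iB (B01 (sw X)) := fun g h0 h1 X => by
    refine hom_ext2 (f := (MulAut.conj (iA g)).toMonoidHom.comp (iB.comp B01)) (g := (iB.comp B01).comp sw)
      (fun c => ((hcj g _ _ h0 h1 c).1).trans ?_) (fun c => ((hcj g _ _ h0 h1 c).2).trans ?_) X
    · show _ = iB (B01 (sw (uniSL c)))
      rw [(sw_uni c).1, hT10]
    · show _ = iB (B01 (sw (lowSL c)))
      rw [(sw_uni c).2, hT01]
  have hapart : ∀ X Y, Commute (iB (B01 X)) (iA g0 * iB (B01 Y) * (iA g0)⁻¹) := by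
    intro X Y
    refine commute_closure closure_roots (iB.comp B01) ((MulAut.conj (iA g0)).toMonoidHom.comp (iB.comp B01)) ?_ X Y
    rintro _ (⟨c, rfl⟩ | ⟨c, rfl⟩) _ (⟨d, rfl⟩ | ⟨d, rfl⟩) <;>
      simp only [MonoidHom.comp_apply, MulEquiv.coe_toMonoidHom, MulAut.conj_apply, hT01, hT10,
        pm_conj g0 d01, pm_conj g0 d01.symm, iA, g_p0, g_p1]
    · exact T_comm d01 d23 d03 d12 _ _
    · exact T_comm d01 d23.symm d02 d13 _ _
    · exact T_comm d01.symm d23 d13 d02 _ _
    · exact T_comm d01.symm d23.symm d12 d03 _ _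
  have hP : iA cc = iB P3 := by
    show pm cc = _
    rw [← three_word d01 d12 d02 cc rfl, P3,
      ← three_word (F := F) (show (0 : Fin 3) ≠ 1 by decide) (show (1 : Fin 3) ≠ 2 by decide)
        (show (0 : Fin 3) ≠ 2 by decide) sig3 rfl]
    simp only [hT, hWord, wWord, map_mul, hiB (0 : Fin 3) 1 (by decide), hiB (1 : Fin 3) 0 (by decide),
      hiB (1 : Fin 3) 2 (by decide), hiB (2 : Fin 3) 1 (by decide)]
    rfl
  let jA : alternatingGroup (Fin n) →* Coprod (alternatingGroup (Fin n)) (SpecialLinearGroup (Fin 3) F) := Coprod.inl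
  let jB : SpecialLinearGroup (Fin 3) F →* Coprod (alternatingGroup (Fin n)) (SpecialLinearGroup (Fin 3) F) :=
    Coprod.inr
  let V := jB (B01 v)
  let W := jB (B01 (sw v))
  let E : List (Coprod (alternatingGroup (Fin n)) (SpecialLinearGroup (Fin 3) F)) :=
    (jA t0 * V * (jA t0)⁻¹ * W⁻¹) :: ⁅V, jA g0 * V * (jA g0)⁻¹⁆ ::
      ((S.map fun s => ⁅jA (Alt.altEmb eS s), V⁆) ++ if 6 ≤ n then [] else [⁅V, jA g0 * W * (jA g0)⁻¹⁆])
  have hj3 : f j * f j * f j = 1 := by
    rw [hj, ← pow_three']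
    exact (Alt.rels_cyc _).cube _
  refine (glue_three hf j hj3 iA iB (hj ▸ hP) ?_ E ?_ ?_).mono (by
    simp only [E, List.length_cons, List.length_append, List.length_map]
    split_ifs <;> simp <;> omega)
  · rw [eq_top_iff]
    intro x _
    rw [Classical.Linear.eq_top_of_transvection_mem (iA.range ⊔ iB.range) fun i j hij c => ?_]
    · trivial
    obtain ⟨k, hki, hkj⟩ := Classical.Linear.exists_third (n := Fin n) (by simp; omega) i j
    obtain ⟨g, -, h⟩ := exists_three' d01 d02 d12 hij hki.symm hkj.symm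
    rw [← T_eq hij]
    rcases h with ⟨h0, h1⟩ | ⟨h0, h1⟩
    · rw [← (hcj g i j h0 h1 c).1]
      exact mul_mem (mul_mem (Subgroup.mem_sup_left ⟨g, rfl⟩) (Subgroup.mem_sup_right ⟨_, rfl⟩))
        (inv_mem (Subgroup.mem_sup_left ⟨g, rfl⟩))
    · rw [← (hcj g j i h0 h1 c).2]
      exact mul_mem (mul_mem (Subgroup.mem_sup_left ⟨g, rfl⟩) (Subgroup.mem_sup_right ⟨_, rfl⟩))
        (inv_mem (Subgroup.mem_sup_left ⟨g, rfl⟩))
  · intro r hr
    simp only [E, List.mem_cons, List.mem_append, List.mem_map] at hr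
    rcases hr with rfl | rfl | ⟨s, -, rfl⟩ | hr
    · simp only [V, W, jA, jB, map_mul, map_inv, Coprod.lift_apply_inl, Coprod.lift_apply_inr, mul_inv_eq_one]
      exact hflip t0 t_p0 t_p1 v
    · simp only [V, jA, jB, map_commutatorElement, map_mul, map_inv, Coprod.lift_apply_inl, Coprod.lift_apply_inr,
        commutatorElement_eq_one_iff_commute]
      exact hapart _ _
    · simp only [V, jA, jB, map_commutatorElement, Coprod.lift_apply_inl, Coprod.lift_apply_inr,
        commutatorElement_eq_one_iff_commute]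
      exact hfix _ (heS s).1 (heS s).2 v
    · split_ifs at hr
      · simp at hr
      · rw [List.mem_singleton] at hr
        subst hr
        simp only [V, W, jA, jB, map_commutatorElement, map_mul, map_inv, Coprod.lift_apply_inl,
          Coprod.lift_apply_inr, commutatorElement_eq_one_iff_commute]
        exact hapart _ _
  intro H _ α β hαβ hE
  rw [hj] at hαβ
  let L : SL(2, F) →* H := β.comp B01
  have R1 : α t0 * L v * (α t0)⁻¹ = L (sw v) := by
    have := hE _ (List.mem_cons_self ..)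
    simpa only [V, W, jA, jB, L, MonoidHom.comp_apply, map_mul, map_inv, Coprod.lift_apply_inl,
      Coprod.lift_apply_inr, mul_inv_eq_one] using this
  have R3 : Commute (L v) (α g0 * L v * (α g0)⁻¹) := by
    have := hE _ (List.mem_cons_of_mem _ (List.mem_cons_self ..))
    simpa only [V, jA, jB, L, MonoidHom.comp_apply, map_commutatorElement, map_mul, map_inv, Coprod.lift_apply_inl,
      Coprod.lift_apply_inr, commutatorElement_eq_one_iff_commute] using this
  have R2 : ∀ s ∈ S, Commute (α (Alt.altEmb eS s)) (L v) := fun s hs => by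
    have := hE _ (List.mem_cons_of_mem _ (List.mem_cons_of_mem _ (List.mem_append_left _
      (List.mem_map.2 ⟨s, hs, rfl⟩))))
    simpa only [V, jA, jB, L, MonoidHom.comp_apply, map_commutatorElement, Coprod.lift_apply_inl,
      Coprod.lift_apply_inr, commutatorElement_eq_one_iff_commute] using this
  -- the stabiliser commutes with the first block
  have hstab1 : ∀ g : alternatingGroup (Fin n), g.1 p0 = p0 → g.1 p1 = p1 → Commute (α g) (L v) := by
    intro g g0' g1'
    obtain ⟨s, rfl⟩ := mem_range_altEmb eS g fun x hx => by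
      rcases (show x = p0 ∨ x = p1 by
        by_contra h
        push Not at h
        exact hx ⟨⟨x.1 - 2, by omega⟩, Fin.ext (by
          simp only [p0, p1, ne_eq, Fin.ext_iff] at h
          show x.1 - 2 + 2 = x.1
          omega)⟩) with rfl | rfl
      · exact g0'
      · exact g1'
    have : Subgroup.closure {x | x ∈ S} ≤ (Subgroup.centralizer ({L v} : Set H)).comap (α.comp (Alt.altEmb eS)) := by
      rw [Subgroup.closure_le]
      exact fun s hs => Subgroup.mem_centralizer_singleton_iff.2 (R2 s hs).eq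
    exact Subgroup.mem_centralizer_singleton_iff.1 (this (hS ▸ Subgroup.mem_top s))
  have tinv : t0⁻¹ = t0 := inv_eq_of_mul_eq_one_right tt
  have hT0 : ∀ X, α t0 * L X * (α t0)⁻¹ = L (sw X) := by
    intro X
    suffices h : ((MulAut.conj (α t0)).toMonoidHom.comp L).eqLocus (L.comp sw) = ⊤ from
      (h ▸ Subgroup.mem_top X : X ∈ ((MulAut.conj (α t0)).toMonoidHom.comp L).eqLocus (L.comp sw))
    rw [eq_top_iff, ← hv, Subgroup.closure_le]
    rintro _ (rfl | rfl)
    · exact R1
    · show α t0 * L (sw v) * (α t0)⁻¹ = L (sw (sw v))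
      rw [sw_sw, ← R1, show α t0 * (α t0 * L v * (α t0)⁻¹) * (α t0)⁻¹ = α (t0 * t0) * L v * (α (t0 * t0))⁻¹ by
        rw [map_mul]; group, tt, map_one, one_mul, inv_one, mul_one]
  have hstab : ∀ g : alternatingGroup (Fin n), g.1 p0 = p0 → g.1 p1 = p1 → ∀ X, Commute (α g) (L X) := by
    intro g h0 h1 X
    have hsv : Commute (α g) (L (sw v)) := by
      have h := hstab1 (t0 * g * t0) (by
        show t0.1 (g.1 (t0.1 p0)) = p0
        rw [t_p0, h1, t_p1]) (by
        show t0.1 (g.1 (t0.1 p1)) = p1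
        rw [t_p1, h0, t_p0])
      rw [← hT0 v]
      have e : α (t0 * g * t0) = (α t0)⁻¹ * α g * α t0 := by
        rw [← map_inv, ← map_mul, ← map_mul, tinv]
      rw [e] at h
      show α g * (α t0 * L v * (α t0)⁻¹) = α t0 * L v * (α t0)⁻¹ * α g
      calc α g * (α t0 * L v * (α t0)⁻¹) = α t0 * ((α t0)⁻¹ * α g * α t0 * L v) * (α t0)⁻¹ := by group
        _ = α t0 * (L v * ((α t0)⁻¹ * α g * α t0)) * (α t0)⁻¹ := by rw [h.eq]
        _ = _ := by group
    have : Subgroup.closure ({v, sw v} : Set SL(2, F)) ≤ (Subgroup.centralizer ({α g} : Set H)).comap L := by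
      rw [Subgroup.closure_le]
      rintro _ (rfl | rfl)
      · exact Subgroup.mem_centralizer_singleton_iff.2 (hstab1 g h0 h1).symm.eq
      · exact Subgroup.mem_centralizer_singleton_iff.2 hsv.symm.eq
    exact (show Commute (L X) (α g) from
      Subgroup.mem_centralizer_singleton_iff.1 (this (hv ▸ Subgroup.mem_top X))).symm
  have hflipH : ∀ g : alternatingGroup (Fin n), g.1 p0 = p1 → g.1 p1 = p0 → ∀ X,
      α g * L X * (α g)⁻¹ = L (sw X) := by
    intro g h0 h1 X
    have h := hstab (t0 * g) (by show t0.1 (g.1 p0) = p0; rw [h0, t_p1])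
      (by show t0.1 (g.1 p1) = p1; rw [h1, t_p0]) X
    rw [← hT0 X, show α g = α t0 * α (t0 * g) by rw [← map_mul, ← mul_assoc, tt, one_mul]]
    calc α t0 * α (t0 * g) * L X * (α t0 * α (t0 * g))⁻¹
        = α t0 * (α (t0 * g) * L X) * (α (t0 * g))⁻¹ * (α t0)⁻¹ := by group
      _ = _ := by rw [h.eq]; group
  have ginv : g0⁻¹ = g0 := inv_eq_of_mul_eq_one_right gg
  let M : SL(2, F) →* H := (MulAut.conj (α g0)).toMonoidHom.comp L
  have hM : ∀ X, M X = α g0 * L X * (α g0)⁻¹ := fun X => rfl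
  have hMM : ∀ {X Y}, Commute (L X) (M Y) → Commute (L Y) (M X) := fun {X Y} h => by
    have := (h.map (MulAut.conj (α g0)).toMonoidHom).symm
    simp only [hM, MulEquiv.coe_toMonoidHom, MulAut.conj_apply] at this
    rw [show α g0 * (α g0 * L Y * (α g0)⁻¹) * (α g0)⁻¹ = α (g0 * g0) * L Y * (α (g0 * g0))⁻¹ by
      rw [map_mul]; group, gg, map_one, one_mul, inv_one, mul_one] at this
    exact this
  have htM : ∀ X, α t0 * M X * (α t0)⁻¹ = M (sw X) := fun X => by
    rw [hM, hM, ← hT0, show α t0 * (α g0 * L X * (α g0)⁻¹) * (α t0)⁻¹ = α (t0 * g0) * L X * (α (t0 * g0))⁻¹ by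
      rw [map_mul]; group, tg, map_mul]
    group
  have hvw : Commute (L v) (M (sw v)) := by
    by_cases h6 : 6 ≤ n
    · let p4 : Fin n := ⟨4, by omega⟩
      let p5 : Fin n := ⟨5, by omega⟩
      have d45 : p4 ≠ p5 := by simp [p4, p5]
      let t' : alternatingGroup (Fin n) := ⟨swap p0 p1 * swap p4 p5, Perm.mem_alternatingGroup.2 (by
        rw [map_mul, Perm.sign_swap d01, Perm.sign_swap d45]; decide)⟩
      have q0 : t'.1 p0 = p1 := by
        show (swap p0 p1 * swap p4 p5) p0 = p1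
        simp [swap_apply_def, p0, p1, p4, p5]
      have q1 : t'.1 p1 = p0 := by
        show (swap p0 p1 * swap p4 p5) p1 = p0
        simp [swap_apply_def, p0, p1, p4, p5]
      have q2 : t'.1 p2 = p2 := by
        show (swap p0 p1 * swap p4 p5) p2 = p2
        simp [swap_apply_def, p0, p1, p2, p4, p5]
      have q3 : t'.1 p3 = p3 := by
        show (swap p0 p1 * swap p4 p5) p3 = p3
        simp [swap_apply_def, p0, p1, p3, p4, p5]
      have hk := hstab (g0 * t' * g0) (by show g0.1 (t'.1 (g0.1 p0)) = p0; rw [g_p0, q2, g_p2])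
        (by show g0.1 (t'.1 (g0.1 p1)) = p1; rw [g_p1, q3, g_p3]) v
      have h := R3.map (MulAut.conj (α t')).toMonoidHom
      simp only [MulEquiv.coe_toMonoidHom, MulAut.conj_apply] at h
      rw [hflipH t' q0 q1, show α t' * (α g0 * L v * (α g0)⁻¹) * (α t')⁻¹ = α g0 * L v * (α g0)⁻¹ by
        rw [show α t' = α g0 * α (g0 * t' * g0) * (α g0)⁻¹ by
          rw [← map_inv, ← map_mul, ← map_mul, ginv, show g0 * (g0 * t' * g0) * g0 = (g0 * g0) * t' * (g0 * g0) by
            simp only [mul_assoc], gg, one_mul, mul_one]]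
        calc _ = α g0 * (α (g0 * t' * g0) * L v) * (α (g0 * t' * g0))⁻¹ * (α g0)⁻¹ := by group
          _ = _ := by rw [hk.eq]; group] at h
      exact hMM h
    · have := hE _ (List.mem_cons_of_mem _ (List.mem_cons_of_mem _ (List.mem_append_right _
        (by rw [if_neg h6]; exact List.mem_singleton_self _))))
      simpa only [V, W, jA, jB, L, M, MonoidHom.comp_apply, MulEquiv.coe_toMonoidHom, MulAut.conj_apply,
        map_commutatorElement, map_mul, map_inv, Coprod.lift_apply_inl,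
        Coprod.lift_apply_inr, commutatorElement_eq_one_iff_commute] using this
  have hall : ∀ X Y, Commute (L X) (M Y) := by
    refine commute_closure hv L M ?_
    rintro _ (rfl | rfl) _ (rfl | rfl)
    · exact R3
    · exact hvw
    · exact hMM hvw
    · have h := R3.map (MulAut.conj (α t0)).toMonoidHom
      simp only [MulEquiv.coe_toMonoidHom, MulAut.conj_apply] at h
      rw [hT0, ← hM, htM] at h
      exact h
  have hex : ∀ i j : Fin n, i ≠ j → ∃ g : alternatingGroup (Fin n), g.1 p0 = i ∧ g.1 p1 = j := by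
    intro i j hij
    obtain ⟨k, hki, hkj⟩ := Classical.Linear.exists_third (n := Fin n) (by simp; omega) i j
    obtain ⟨l, -, hl⟩ := Finset.exists_mem_notMem_of_card_lt_card (s := ({i, j, k} : Finset (Fin n)))
      (t := Finset.univ) (lt_of_le_of_lt Finset.card_le_three (by rw [Finset.card_univ, Fintype.card_fin]; omega))
    simp only [Finset.mem_insert, Finset.mem_singleton, not_or] at hl
    obtain ⟨g, h1, h2, -⟩ := exists_four' d01 d02 d12 d03 d13 d23 hij hki.symm hkj.symm (Ne.symm hl.1)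
      (Ne.symm hl.2.1) (Ne.symm hl.2.2)
    exact ⟨g, h1, h2⟩
  let Y : Fin n → Fin n → F → H := fun i j c =>
    if h : i ≠ j then α (hex i j h).choose * L (uniSL c) * (α (hex i j h).choose)⁻¹ else 1
  have hY : ∀ (g : alternatingGroup (Fin n)) c, Y (g.1 p0) (g.1 p1) c = α g * L (uniSL c) * (α g)⁻¹ := by
    intro g c
    have hne := g.1.injective.ne d01
    simp only [Y, dif_pos hne]
    obtain ⟨q0, q1⟩ := (hex _ _ hne).choose_spec
    set q := (hex _ _ hne).choose
    have hf' : ∀ x, q.1 x = g.1 x → (g⁻¹ * q : alternatingGroup (Fin n)).1 x = x := fun x hx => by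
      show g.1⁻¹ (q.1 x) = x
      rw [hx]; exact g.1.symm_apply_apply x
    have h := hstab (g⁻¹ * q) (hf' _ q0) (hf' _ q1) (uniSL c)
    rw [show α q = α g * α (g⁻¹ * q) by rw [← map_mul, mul_inv_cancel_left]]
    calc α g * α (g⁻¹ * q) * L (uniSL c) * (α g * α (g⁻¹ * q))⁻¹
        = α g * (α (g⁻¹ * q) * L (uniSL c)) * (α (g⁻¹ * q))⁻¹ * (α g)⁻¹ := by group
      _ = _ := by rw [h.eq]; group
  have hequiv : ∀ (g : alternatingGroup (Fin n)) i j, i ≠ j → ∀ c,
      α g * Y i j c * (α g)⁻¹ = Y (g.1 i) (g.1 j) c := by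
    intro g i j hij c
    obtain ⟨k, rfl, rfl⟩ := hex i j hij
    rw [hY k, show g.1 (k.1 p0) = (g * k).1 p0 from rfl, show g.1 (k.1 p1) = (g * k).1 p1 from rfl, hY (g * k),
      map_mul]
    group
  have Y01 : ∀ c, Y p0 p1 c = L (uniSL c) := fun c => by simpa using hY 1 c
  have Y10 : ∀ c, Y p1 p0 c = L (lowSL c) := fun c => by
    have := hequiv t0 p0 p1 d01 c
    rw [t_p0, t_p1, Y01, hT0, (sw_uni c).1] at this
    exact this.symm
  have hstep : ∀ a b : Fin 3, a ≠ b → (∀ c, Y (e a) (e b) c = β (T a b c)) →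
      ∀ c, Y (e (sig3.1 a)) (e (sig3.1 b)) c = β (T (sig3.1 a) (sig3.1 b) c) := by
    intro a b hab h c
    have hsig : ∀ x : Fin 3, e (sig3.1 x) = cc.1 (e x) := fun x => by
      fin_cases x
      · exact (congrArg e sig3_apply.1).trans hc0.symm
      · exact (congrArg e sig3_apply.2.1).trans hc1.symm
      · exact (congrArg e sig3_apply.2.2).trans hc2.symm
    rw [hsig, hsig, ← hequiv cc _ _ (he hab), h, hαβ, P3, ← map_inv, ← map_mul, ← map_mul, pm_conj sig3 hab]
  have Ye : ∀ a b : Fin 3, a ≠ b → ∀ c, Y (e a) (e b) c = β (T a b c) := by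
    have y01 : ∀ c, Y (e 0) (e 1) c = β (T 0 1 c) := fun c => by
      rw [(Three.T_blocks c).1]; exact Y01 c
    have y10 : ∀ c, Y (e 1) (e 0) c = β (T 1 0 c) := fun c => by
      rw [(Three.T_blocks c).2.1]; exact Y10 c
    have y12 := hstep 0 1 (by decide) y01
    rw [sig3_apply.1, sig3_apply.2.1] at y12
    have y20 := hstep 1 2 (by decide) y12
    rw [sig3_apply.2.1, sig3_apply.2.2] at y20
    have y21 := hstep 1 0 (by decide) y10
    rw [sig3_apply.1, sig3_apply.2.1] at y21
    have y02 := hstep 2 1 (by decide) y21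
    rw [sig3_apply.2.1, sig3_apply.2.2] at y02
    intro a b hab c
    fin_cases a <;> fin_cases b <;> first | exact absurd rfl hab | skip
    exacts [y01 c, y02 c, y10 c, y12 c, y20 c, y21 c]
  have htrip : ∀ i j k : Fin n, i ≠ j → i ≠ k → j ≠ k → ∃ (g : alternatingGroup (Fin n)) (a b c : Fin 3),
      a ≠ b ∧ a ≠ c ∧ b ≠ c ∧ g.1 (e a) = i ∧ g.1 (e b) = j ∧ g.1 (e c) = k := by
    intro i j k hij hik hjk
    obtain ⟨g, h2, ⟨h0, h1⟩ | ⟨h0, h1⟩⟩ := exists_three' d01 d02 d12 hij hik hjk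
    · exact ⟨g, 0, 1, 2, by decide, by decide, by decide, h0, h1, h2⟩
    · exact ⟨g, 1, 0, 2, by decide, by decide, by decide, h1, h0, h2⟩
  have hrels : SteinbergSL.Outer.Rels Y fun i j => i ≠ j := by
    refine ⟨fun i j hij a b => ?_, fun i j k l hij hkl hil hjk a b => ?_, fun i j k hij hjk hik a b => ?_⟩
    · obtain ⟨g, rfl, rfl⟩ := hex i j hij
      rw [hY, hY, hY, ← uniSL_mul, map_mul]
      group
    · by_cases hik : i = k
      · subst hik
        by_cases hjl : j = l
        · subst hjl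
          obtain ⟨g, rfl, rfl⟩ := hex i j hij
          rw [hY, hY, Commute.conj_iff]
          show L (uniSL a) * L (uniSL b) = L (uniSL b) * L (uniSL a)
          rw [← map_mul, ← map_mul, uniSL_mul, uniSL_mul, add_comm]
        · obtain ⟨g, x, y, w, hxy, hxw, hyw, rfl, rfl, rfl⟩ := htrip i j l hij hil hjl
          rw [← hequiv g _ _ (he hxy), ← hequiv g _ _ (he hxw), Commute.conj_iff, Ye x y hxy, Ye x w hxw]
          exact (T_commute hxy hxw hxw hxy.symm a b).map β
      · by_cases hjl : j = l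
        · subst hjl
          obtain ⟨g, x, y, w, hxy, hxw, hyw, rfl, rfl, rfl⟩ := htrip i j k hij hik hjk
          rw [← hequiv g _ _ (he hxy), ← hequiv g _ _ (he hyw.symm), Commute.conj_iff, Ye x y hxy, Ye w y hyw.symm]
          exact (T_commute hxy hyw.symm hxy hyw a b).map β
        · obtain ⟨g, rfl, rfl, h | h⟩ := exists_four' d01 d02 d12 d03 d13 d23 hij hik hjk hil hjl hkl
          · rw [← h.1, ← h.2, ← hequiv g _ _ d01, ← hequiv g _ _ d23, Commute.conj_iff, Y01, ← g_p0, ← g_p1, hY]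
            exact hall _ _
          · rw [← h.1, ← h.2, ← hequiv g _ _ d01, ← hequiv g _ _ d23.symm, Commute.conj_iff, Y01,
              show Y p3 p2 b = α g0 * L (lowSL b) * (α g0)⁻¹ by
                rw [← Y10, hequiv g0 _ _ d01.symm, g_p0, g_p1]]
            exact hall _ _
    · obtain ⟨g, x, y, w, hxy, hxw, hyw, rfl, rfl, rfl⟩ := htrip i j k hij hik hjk
      rw [← hequiv g _ _ (he hxy), ← hequiv g _ _ (he hyw), ← hequiv g _ _ (he hxw), ← conjugate_commutatorElement,
        Ye x y hxy, Ye y w hyw, Ye x w hxw, ← map_commutatorElement, T_bracket hxw hxy hyw]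
  obtain ⟨φ, hφ⟩ := SteinbergSL.Outer.exists_hom (by simp; omega) hrels
  have hBB : φ.comp iB = β := by
    refine MonoidHom.ext fun x => ?_
    suffices hloc : (φ.comp iB).eqLocus β = ⊤ from
      (hloc ▸ Subgroup.mem_top x : x ∈ (φ.comp iB).eqLocus β)
    refine Classical.Linear.eq_top_of_transvection_mem _ fun i j hij c => ?_
    show φ (iB _) = β _
    rw [← T_eq hij, hiB i j hij, hφ _ _ (he hij)]
    exact Ye i j hij c
  refine ⟨φ, ?_, hBB⟩
  have hconj : ∀ g x, α g * φ x * (α g)⁻¹ = φ (iA g * x * (iA g)⁻¹) := by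
    intro g x
    suffices hloc : ((MulAut.conj (α g)).toMonoidHom.comp φ).eqLocus
        (φ.comp (MulAut.conj (iA g)).toMonoidHom) = ⊤ from
      (hloc ▸ Subgroup.mem_top x : x ∈ ((MulAut.conj (α g)).toMonoidHom.comp φ).eqLocus
        (φ.comp (MulAut.conj (iA g)).toMonoidHom))
    refine Classical.Linear.eq_top_of_transvection_mem _ fun i j hij c => ?_
    show α g * φ _ * (α g)⁻¹ = φ (iA g * _ * (iA g)⁻¹)
    rw [← T_eq hij, pm_conj g hij, hφ i j hij, hφ _ _ (g.1.injective.ne hij), hequiv g i j hij]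
  set D := (φ.comp iA).eqLocus α
  have hD : D.Normal := by
    refine ⟨fun x hx g => ?_⟩
    have hx' : φ (iA x) = α x := hx
    show φ (iA (g * x * g⁻¹)) = α (g * x * g⁻¹)
    rw [map_mul iA, map_mul iA, map_inv iA, ← hconj, map_mul α, map_mul α, map_inv α, hx']
  have hmem : cc ∈ D := by
    show φ (iA cc) = α cc
    rw [hP, hαβ, ← hBB]
    rfl
  have htop : D = ⊤ := by
    rw [eq_top_iff, ← Alt.closure_cyc d12, Subgroup.closure_le]
    rintro _ ⟨⟨w, hw1, hw2⟩, rfl⟩
    obtain ⟨g, h2, ⟨h0, h1⟩ | ⟨h0, h1⟩⟩ := exists_three' d01 d02 d12 hw1 hw2 d12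
    · have : Alt.cyc d12 ⟨w, hw1, hw2⟩ = g * cc * g⁻¹ := Subtype.ext (by
        show swap w p1 * swap p1 p2 = g.1 * (swap p0 p1 * swap p1 p2) * g.1⁻¹
        rw [Alt.conj_cyc, h0, h1, h2])
      rw [this]
      exact hD.conj_mem _ hmem g
    · have : Alt.cyc d12 ⟨w, hw1, hw2⟩ = (g * cc * g⁻¹)⁻¹ := Subtype.ext (by
        show swap w p1 * swap p1 p2 = (g.1 * (swap p0 p1 * swap p1 p2) * g.1⁻¹)⁻¹
        rw [Alt.conj_cyc, h0, h1, h2, _root_.mul_inv_rev, swap_inv, swap_inv]
        ext x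
        simp only [Perm.mul_apply, swap_apply_def]
        split_ifs <;> simp_all)
      rw [this]
      exact inv_mem (hD.conj_mem _ hmem g)
  exact MonoidHom.ext fun g => (htop ▸ Subgroup.mem_top g : g ∈ D)

theorem gens_four : ∃ S : List (alternatingGroup (Fin (4 - 2))), S.length = 0 ∧ Subgroup.closure {x | x ∈ S} = ⊤ := by
  refine ⟨[], rfl, eq_top_iff.2 fun x _ => ?_⟩
  have := Alt.subsingleton_alt (n := 4 - 2) le_rfl
  rw [Subsingleton.elim x 1]
  exact one_mem _

theorem gens_five : ∃ S : List (alternatingGroup (Fin (5 - 2))), S.length = 1 ∧ Subgroup.closure {x | x ∈ S} = ⊤ := by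
  have huv : (⟨0, by norm_num⟩ : Fin (5 - 2)) ≠ ⟨1, by norm_num⟩ := by simp
  refine ⟨[Alt.cyc huv ⟨⟨2, by norm_num⟩, by simp, by simp⟩], rfl, eq_top_iff.2 ?_⟩
  rw [← Alt.closure_cyc huv]
  refine Subgroup.closure_mono ?_
  rintro _ ⟨⟨w, hw⟩, rfl⟩
  simp only [List.mem_cons, List.not_mem_nil, or_false, Set.mem_setOf_eq]
  congr
  revert hw
  revert w
  decide

theorem gens_big {n : ℕ} (hn : 5 ≤ n) :
    ∃ S : List (alternatingGroup (Fin (n - 2))), S.length = 2 ∧ Subgroup.closure {x | x ∈ S} = ⊤ := by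
  obtain ⟨s₁, s₂, h⟩ := Alt.exists_pair (n := n - 2) (by omega)
  refine ⟨[s₁, s₂], rfl, ?_⟩
  rw [← h]
  congr 1
  ext x
  simp

theorem sl_four : PresN (SpecialLinearGroup (Fin 4) F) 5 19 := by
  obtain ⟨f, hf, hj⟩ := on_four
  obtain ⟨S, hl, hS⟩ := gens_four
  have := pres_core (F := F) (le_refl 4) hf 0 hj S hS
  rw [hl] at this
  exact this

theorem sl_five : PresN (SpecialLinearGroup (Fin 5) F) 5 21 := by
  obtain ⟨f, hf, hj⟩ := on_five
  obtain ⟨S, hl, hS⟩ := gens_five
  have := pres_core (F := F) (show 4 ≤ 5 by norm_num) hf 1 hj S hS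
  rw [hl] at this
  exact this

theorem sl_big {n : ℕ} (hn : 6 ≤ n) : PresN (SpecialLinearGroup (Fin n) F) 6 24 := by
  obtain ⟨f, hf, hj⟩ := on_big hn
  obtain ⟨S, hl, hS⟩ := gens_big (n := n) (by omega)
  have := pres_core (F := F) (show 4 ≤ n by omega) hf 1 hj S hS
  rw [hl, if_pos hn] at this
  exact this

theorem sl_seven {n : ℕ} (hn : 4 ≤ n) : PresN (SpecialLinearGroup (Fin n) F) 7 25 := by
  rcases Nat.lt_or_ge n 6 with h | h
  · obtain rfl | rfl : n = 4 ∨ n = 5 := by omega
    · exact (sl_four.pads 2).mono (by norm_num)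
    · exact (sl_five.pads 2).mono (by norm_num)
  · exact (sl_big h).pad

end Cfsg.Agent.ShortPres.Joint
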