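import Cfsg.Agent.Lib.Forms.DicksonMax
import Cfsg.Agent.Lib.ShortPres.SLTwo
import Mathlib

/-!
`SL₂` is generated by one matrix and its image under interchanging the two coordinates.
-/

set_option autoImplicit false
set_option linter.unusedSectionVars false

namespace Cfsg.Agent.ShortPres.Joint

open MulAction Cfsg.Agent.Classical.GL2 Cfsg.Agent.Forms
open scoped MatrixGroups

variable {F : Type*} [Field F]

/-- Interchanging the two coordinates. -/
def sw : SL(2, F) →* SL(2, F) where
  toFun X := ⟨!![X.1 1 1, X.1 1 0; X.1 0 1, X.1 0 0], by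
    have h := Matrix.SpecialLinearGroup.det_coe X
    rw [Matrix.det_fin_two] at h
    rw [Matrix.det_fin_two_of]; linear_combination h⟩
  map_one' := mat_ext (by
    ext i j; fin_cases i <;> fin_cases j <;> simp)
  map_mul' X Y := mat_ext (by
    show _ = !![X.1 1 1, X.1 1 0; X.1 0 1, X.1 0 0] * !![Y.1 1 1, Y.1 1 0; Y.1 0 1, Y.1 0 0]
    ext i j; fin_cases i <;> fin_cases j <;>
      simp [Matrix.SpecialLinearGroup.coe_mul, Matrix.mul_apply, Fin.sum_univ_two] <;> ring)

theorem coe_sw (X : SL(2, F)) :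
    (sw X : Matrix (Fin 2) (Fin 2) F) = !![X.1 1 1, X.1 1 0; X.1 0 1, X.1 0 0] := rfl

theorem sw_sw (X : SL(2, F)) : sw (sw X) = X := mat_ext (by
  ext i j; fin_cases i <;> fin_cases j <;> simp [coe_sw])

/-- An upper triangular matrix. -/
def vT (z : Fˣ) (c : F) : SL(2, F) := ⟨!![(z : F), c; 0, (z : F)⁻¹], by simp [Matrix.det_fin_two_of]⟩

theorem vT_pow (z : Fˣ) (c : F) (j : ℕ) :
    (vT z c ^ j).1 1 0 = 0 ∧ (vT z c ^ j).1 0 0 = (z : F) ^ j ∧ (vT z c ^ j).1 1 1 = ((z : F)⁻¹) ^ j ∧
      (vT z c ^ j).1 0 1 * ((z : F) - (z : F)⁻¹) = c * ((z : F) ^ j - ((z : F)⁻¹) ^ j) := by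
  induction j with
  | zero => simp
  | succ j ih =>
    obtain ⟨h10, h00, h11, h01⟩ := ih
    have hz := mul_inv_cancel₀ z.ne_zero
    rw [pow_succ (vT z c), Matrix.SpecialLinearGroup.coe_mul]
    set M := (vT z c ^ j).1
    rw [show (vT z c).1 = !![(z : F), c; 0, (z : F)⁻¹] from rfl]
    simp only [Matrix.mul_apply, Fin.sum_univ_two]
    simp only [Matrix.of_apply, Matrix.cons_val', Matrix.cons_val_zero, Matrix.cons_val_one,
      Matrix.empty_val', Matrix.cons_val_fin_one, h10, h00, h11]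
    refine ⟨by ring, by ring, by ring, ?_⟩
    simp only [pow_succ]
    linear_combination (z : F)⁻¹ * h01

section order

variable [Fintype F] {z : Fˣ} {c : F}

theorem pow_neg_or_one (hc : c ≠ 0) (hz2 : (z : F) * z ≠ 1) {j : ℕ}
    (h01 : (vT z c ^ j).1 0 1 = 0) :
    KleinPSL.pi F (vT z c ^ j) = 1 := by
  obtain ⟨h10, h00, h11, h⟩ := vT_pow z c j
  rw [h01, zero_mul] at h
  have he : (z : F) ^ j = ((z : F)⁻¹) ^ j := sub_eq_zero.1 ((mul_eq_zero.1 h.symm).resolve_left hc)
  have hsq : (z : F) ^ j * (z : F) ^ j = 1 := by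
    nth_rewrite 2 [he]
    rw [← mul_pow, mul_inv_cancel₀ z.ne_zero, one_pow]
  refine KleinPSL.pi_eq_one.2 ?_
  rcases mul_self_eq_one_iff.1 hsq with e | e
  · left
    refine mat_ext (Matrix.ext fun a b => ?_)
    fin_cases a <;> fin_cases b
    · exact h00.trans e
    · exact h01
    · exact h10
    · exact h11.trans (he.symm.trans e)
  · right
    refine mat_ext (Matrix.ext fun a b => ?_)
    fin_cases a <;> fin_cases b
    · exact (h00.trans e).trans (by simp [Matrix.SpecialLinearGroup.coe_neg])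
    · exact h01.trans (by simp [Matrix.SpecialLinearGroup.coe_neg])
    · exact h10.trans (by simp [Matrix.SpecialLinearGroup.coe_neg])
    · exact (h11.trans (he.symm.trans e)).trans (by simp [Matrix.SpecialLinearGroup.coe_neg])

theorem pow_diag (j : ℕ) (h : KleinPSL.pi F (vT z c ^ j) = 1) : (z : F) ^ j = 1 ∨ (z : F) ^ j = -1 := by
  rw [← (vT_pow z c j).2.1]
  rcases KleinPSL.pi_eq_one.1 h with e | e <;> rw [e] <;> simp [Matrix.SpecialLinearGroup.coe_neg]

end order

variable [Fintype F]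

local notation "PG" => Matrix.ProjectiveSpecialLinearGroup (Fin 2) F

/-- The order of the image is large. -/
theorem order_bound {z : Fˣ} (hz : ∀ x : Fˣ, x ∈ Subgroup.zpowers z) (c : F) :
    Fintype.card F - 1 ∣ 2 * orderOf (KleinPSL.pi F (vT z c)) ∧
      ((2 : F) = 0 → Fintype.card F - 1 ∣ orderOf (KleinPSL.pi F (vT z c))) := by
  classical
  set m := orderOf (KleinPSL.pi F (vT z c))
  have ho : orderOf z = Fintype.card F - 1 := by
    rw [orderOf_eq_card_of_forall_mem_zpowers hz, Nat.card_eq_fintype_card, Fintype.card_units]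
  have hd := pow_diag (z := z) (c := c) m (by rw [map_pow, pow_orderOf_eq_one])
  have key : ∀ k, (z : F) ^ k = 1 → Fintype.card F - 1 ∣ k := fun k hk =>
    ho ▸ orderOf_dvd_of_pow_eq_one (Units.ext (by rw [Units.val_pow_eq_pow_val, hk, Units.val_one]))
  refine ⟨key _ ?_, fun h2 => key _ ?_⟩
  · rw [mul_comm, pow_mul]
    rcases hd with e | e <;> rw [e] <;> simp
  · rcases hd with e | e
    · exact e
    · rw [e]; linear_combination -h2

theorem perm4_exp : ∀ g : Equiv.Perm (Fin 4), g ^ 2 = 1 ∨ g ^ 3 = 1 ∨ g ^ 4 = 1 := by decide +kernel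

theorem alt4_exp' : ∀ g : alternatingGroup (Fin 4), g ^ 2 = 1 ∨ g ^ 3 = 1 := by decide +kernel

theorem alt5_exp' : ∀ g : alternatingGroup (Fin 5), g ^ 2 = 1 ∨ g ^ 3 = 1 ∨ g ^ 5 = 1 := by decide +kernel

/-- Transport of a bounded list of exponents. -/
theorem exp_transfer {H K : Type*} [Group H] [Group K] (e : H ≃* K) {g : H} {n : ℕ} (h : e g ^ n = 1) :
    orderOf g ∣ n :=
  orderOf_dvd_of_pow_eq_one (e.injective (by rw [map_pow, h, map_one]))

theorem orders_five {X : SL(2, F)} {t : F} (ht : X.1 0 0 + X.1 1 1 = t) (h4 : t ^ 4 - 3 * t ^ 2 + 1 = 0)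
    (h3 : t ^ 3 - 2 * t = 1) (hX : X.1 0 1 ≠ 0) : orderOf (KleinPSL.pi F X) = 5 := by
  obtain ⟨p, hpc⟩ := CharP.exists F
  haveI := hpc
  haveI : Fact p.Prime := ⟨CharP.char_is_prime F p⟩
  haveI : Fact (Nat.Prime 5) := ⟨by norm_num⟩
  have hq := DicksonAction.sq_eq_trace X
  rw [Matrix.trace_fin_two, ht] at hq
  set M := X.1 with hM
  have e3 : M * M * M = (t ^ 2 - 1) • M - t • (1 : Matrix (Fin 2) (Fin 2) F) := by
    rw [hq, sub_mul, smul_mul_assoc, hq, one_mul, smul_sub, smul_smul, sub_smul, sq, one_smul]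
    abel
  have e5 : M * M * M * (M * M) = (t ^ 4 - 3 * t ^ 2 + 1) • M - (t ^ 3 - 2 * t) • (1 : Matrix (Fin 2) (Fin 2) F) := by
    rw [e3, hq]
    ext i j
    have := congrFun (congrFun hq i) j
    simp only [sub_mul, mul_sub, smul_mul_assoc, mul_smul_comm, one_mul, mul_one, hq, Matrix.sub_apply,
      Matrix.smul_apply, smul_eq_mul]
    ring
  rw [h4, h3, zero_smul, zero_sub, one_smul] at e5
  refine orderOf_eq_prime ?_ fun h => hX ?_
  · rw [← map_pow]
    refine KleinPSL.pi_eq_one.2 (Or.inr (mat_ext ?_))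
    rw [Matrix.SpecialLinearGroup.coe_pow, Matrix.SpecialLinearGroup.coe_neg, Matrix.SpecialLinearGroup.coe_one,
      show (5 : ℕ) = 3 + 2 from rfl, pow_add, pow_three', pow_two, ← hM, e5]
  · rcases KleinPSL.pi_eq_one.1 h with e | e <;> rw [hM, e] <;> simp [Matrix.SpecialLinearGroup.coe_neg]

theorem mul_sw (z : Fˣ) (c : F) :
    ((vT z c * sw (vT z c) : SL(2, F)) : Matrix (Fin 2) (Fin 2) F) =
        !![1 + c * c, c * (z : F); (z : F)⁻¹ * c, 1] ∧
      ((sw (vT z c) * vT z c : SL(2, F)) : Matrix (Fin 2) (Fin 2) F) =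
        !![1, (z : F)⁻¹ * c; c * (z : F), 1 + c * c] := by
  have hz := mul_inv_cancel₀ z.ne_zero
  rw [Matrix.SpecialLinearGroup.coe_mul, Matrix.SpecialLinearGroup.coe_mul, coe_sw,
    show (vT z c).1 = !![(z : F), c; 0, (z : F)⁻¹] from rfl]
  constructor <;> ext i j <;> fin_cases i <;> fin_cases j <;>
    simp [Matrix.mul_apply, Fin.sum_univ_two] <;> ring

/-- The two projective images do not commute. -/
theorem not_comm {z : Fˣ} {c : F} (hc : c ≠ 0) (h4 : z ^ 4 ≠ 1) :
    KleinPSL.pi F (vT z c) * KleinPSL.pi F (sw (vT z c)) ≠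
      KleinPSL.pi F (sw (vT z c)) * KleinPSL.pi F (vT z c) := by
  intro hcomm
  rw [← map_mul, ← map_mul, KleinPSL.pi_eq_iff] at hcomm
  obtain ⟨e1, e2⟩ := mul_sw z c
  have hzi := mul_inv_cancel₀ z.ne_zero
  rcases hcomm with e | e
  · have h00 := congrFun (congrFun (congrArg Subtype.val e) 0) 0
    rw [e1, e2] at h00
    simp at h00
    exact hc h00
  · have h01 := congrFun (congrFun (congrArg Subtype.val e) 0) 1
    rw [e1, Matrix.SpecialLinearGroup.coe_neg, Matrix.neg_apply, e2] at h01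
    simp at h01
    have hz4 : (z : F) * z = -1 := by
      have : c * ((z : F) * z + 1) = 0 := by linear_combination (z : F) * h01 - c * hzi
      linear_combination (mul_eq_zero.1 this).resolve_left hc
    refine h4 (Units.ext ?_)
    rw [Units.val_pow_eq_pow_val, Units.val_one]
    linear_combination ((z : F) * z - 1) * hz4

/-- No point is fixed by both projective images. -/
theorem not_fixed {z : Fˣ} {c : F} (hc : c ≠ 0) (hcd : c * c ≠ ((z : F)⁻¹ - z) * ((z : F)⁻¹ - z))
    (x : OnePoint (AlgebraicClosure F)) (hA : KleinPSL.pi F (vT z c) • x = x)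
    (hB : KleinPSL.pi F (sw (vT z c)) • x = x) : False := by
  cases x with
  | infty =>
    rw [DicksonAction.smul_infty_iff, coe_sw] at hB
    simp [vT] at hB
    exact hc hB
  | coe y =>
    rw [DicksonAction.smul_coe_iff] at hA hB
    rw [coe_sw] at hB
    simp [vT] at hA hB
    set f := algebraMap F (AlgebraicClosure F) with hf
    have h1 : (f (z : F))⁻¹ * y - f (z : F) * y = f c := by linear_combination hA
    have hy0 : y ≠ 0 := fun e => by
      rw [e] at h1; simp at h1; exact hc ((map_eq_zero f).1 h1.symm)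
    have h2 : f c * y = (f (z : F))⁻¹ - f (z : F) := by
      have : y * (f c * y - ((f (z : F))⁻¹ - f (z : F))) = 0 := by linear_combination hB
      linear_combination (mul_eq_zero.1 this).resolve_left hy0
    refine hcd (f.injective ?_)
    simp only [map_mul, map_sub, map_inv₀]
    linear_combination (-(f c)) * h1 + ((f (z : F))⁻¹ - f (z : F)) * h2

theorem num_even {q m s : ℕ} (hq : 8 ≤ q) (h1 : q - 1 ≤ m) (hs : 2 ≤ s) (hsq : s * s ≤ q)
    (h : m * m ≤ s * ((s - 1) * (s + 1))) : False := by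
  obtain ⟨Q, rfl⟩ : ∃ Q, q = Q + 1 := ⟨q - 1, by omega⟩
  obtain ⟨t, rfl⟩ : ∃ t, s = t + 1 := ⟨s - 1, by omega⟩
  simp only [Nat.add_sub_cancel] at h1 h
  have : Q * Q ≤ m * m := Nat.mul_le_mul h1 h1
  nlinarith

theorem num_odd {q m s : ℕ} (hq : 25 ≤ q) (h1 : q - 1 ≤ 2 * m) (hs : 2 ≤ s) (hsq : s * s ≤ q)
    (h : m * m ≤ s * ((s - 1) * (s + 1))) : False := by
  obtain ⟨Q, rfl⟩ : ∃ Q, q = Q + 1 := ⟨q - 1, by omega⟩
  obtain ⟨t, rfl⟩ : ∃ t, s = t + 1 := ⟨s - 1, by omega⟩
  simp only [Nat.add_sub_cancel] at h1 h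
  have : Q * Q ≤ (2 * m) * (2 * m) := Nat.mul_le_mul h1 h1
  rcases Nat.lt_or_ge t 4 with h4 | h4
  · interval_cases t <;> nlinarith
  · nlinarith [mul_le_mul hsq hsq (Nat.zero_le _) (Nat.zero_le _)]

theorem num_comm {q : ℕ} (h : q = 4 ∨ q = 9 ∨ 8 ≤ q) (hd : q - 1 ∣ 4) : False := by
  have := Nat.le_of_dvd (by norm_num) hd
  rcases h with rfl | rfl | h
  · norm_num at hd
  · norm_num at hd
  · omega

theorem num_five {m : ℕ} (h : m ∣ 2 ∨ m ∣ 3 ∨ m ∣ 5) : m ≤ 5 := by
  rcases h with h' | h' | h' <;> have := Nat.le_of_dvd (by norm_num) h' <;> omega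

theorem num_eight {m : ℕ} (h : m ∣ 2 ∨ m ∣ 3 ∨ m ∣ 5) (h8 : 8 ∣ 2 * m) : False := by
  have := num_five h
  interval_cases m <;> omega

theorem num_four {m s : ℕ} (h1 : 3 ≤ m) (hs : 2 ≤ s) (hsq : s * s ≤ 4) : s = 2 := by nlinarith

theorem num_nine {s : ℕ} (hsq : s * s ≤ 9) : s ≤ 3 := by nlinarith

set_option maxHeartbeats 800000 in
/-- A generator and its twin, outside the prime fields. -/
theorem gen_core (p : ℕ) [Fact p.Prime] [CharP F p] {z : Fˣ} (hz : ∀ x : Fˣ, x ∈ Subgroup.zpowers z) {c : F}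
    (hc : c ≠ 0) (φ : SL(2, F) →* SL(2, F)) (hφφ : ∀ X, φ (φ X) = X) (hφn : φ (-1) = -1)
    (hφ01 : ∀ X : SL(2, F), X.1 1 0 = 0 → (φ X).1 0 1 = 0)
    (hnc : z ^ 4 ≠ 1 → KleinPSL.pi F (vT z c) * KleinPSL.pi F (φ (vT z c)) ≠
      KleinPSL.pi F (φ (vT z c)) * KleinPSL.pi F (vT z c))
    (hnf : ∀ x : OnePoint (AlgebraicClosure F), KleinPSL.pi F (vT z c) • x = x →
      KleinPSL.pi F (φ (vT z c)) • x = x → False)
    (hnp : ∃ l, 2 ≤ l ∧ Fintype.card F = p ^ l)
    (hsmall : Fintype.card F = 4 ∨ Fintype.card F = 9 →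
      orderOf (KleinPSL.pi F (vT z c * φ (vT z c))) = 5) :
    Subgroup.closure ({vT z c, φ (vT z c)} : Set SL(2, F)) = ⊤ := by
  classical
  set v := vT z c with hv
  set w := φ v with hw
  set K := Subgroup.closure ({v, w} : Set SL(2, F)) with hK
  set a := KleinPSL.pi F v with ha
  set b := KleinPSL.pi F w with hb
  set H : Subgroup PG := K.map (KleinPSL.pi F) with hHdef
  have haH : a ∈ H := ⟨v, Subgroup.subset_closure (Or.inl rfl), rfl⟩
  have hbH : b ∈ H := ⟨w, Subgroup.subset_closure (Or.inr rfl), rfl⟩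
  set q := Fintype.card F with hqdef
  obtain ⟨l, hl, hql⟩ := hnp
  have hp2 : 2 ≤ p := (Fact.out : p.Prime).two_le
  have hq4 : 4 ≤ q := by
    rw [hql]
    calc 4 = 2 ^ 2 := rfl
      _ ≤ p ^ 2 := Nat.pow_le_pow_left hp2 2
      _ ≤ p ^ l := Nat.pow_le_pow_right (by omega) hl
  have hodd_big : q = 4 ∨ q = 9 ∨ (8 ≤ q ∧ q ≠ 9 ∧ (Odd q → 25 ≤ q)) := by
    rcases Nat.lt_or_ge p 3 with h | h
    · obtain rfl : p = 2 := by omega
      rcases Nat.lt_or_ge l 3 with h3 | h3
      · obtain rfl : l = 2 := by omega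
        exact Or.inl hql
      · have h8 : 2 ^ 3 ≤ 2 ^ l := Nat.pow_le_pow_right (by norm_num) h3
        have he : Even q := hql ▸ Nat.even_pow.2 ⟨even_two, by omega⟩
        refine Or.inr (Or.inr ⟨by omega, ?_, fun ho => absurd he (Nat.not_even_iff_odd.2 ho)⟩)
        rintro h9; rw [h9] at he; exact absurd he (by decide)
    · rcases Nat.lt_or_ge l 3 with h3 | h3
      · obtain rfl : l = 2 := by omega
        rcases Nat.lt_or_ge p 5 with h5 | h5
        · have : p = 3 := by
            interval_cases p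
            · rfl
            · exact absurd (Fact.out : Nat.Prime 4) (by norm_num)
          subst this
          exact Or.inr (Or.inl hql)
        · have : 5 ^ 2 ≤ p ^ 2 := Nat.pow_le_pow_left h5 2
          exact Or.inr (Or.inr ⟨by omega, by omega, fun _ => by omega⟩)
      · have : 3 ^ 3 ≤ p ^ l := (Nat.pow_le_pow_left h 3).trans (Nat.pow_le_pow_right (by omega) h3)
        exact Or.inr (Or.inr ⟨by omega, by omega, fun _ => by omega⟩)
  have hcases : q = 4 ∨ q = 9 ∨ 8 ≤ q := hodd_big.imp_right fun h => h.imp_right fun h => h.1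
  obtain ⟨hm2, hmeven⟩ := order_bound hz c
  set m := orderOf a with hm
  have hm0 : 0 < m := orderOf_pos a
  have hm_ge : q - 1 ≤ 2 * m := Nat.le_of_dvd (by omega) hm2
  have hzero : p = 2 → (2 : F) = 0 := fun e => by
    subst e; exact CharTwo.two_eq_zero
  have hm_even : Even q → q - 1 ≤ m := fun he => by
    have : p = 2 := by
      rw [hql] at he
      obtain ⟨he, -⟩ := Nat.even_pow.1 he
      exact ((Fact.out : p.Prime).even_iff).1 he
    exact Nat.le_of_dvd hm0 (hmeven (hzero this))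
  have hm6 : q ≠ 4 → q ≠ 9 → 6 ≤ m := fun h4 h9 => by
    rcases hodd_big with h | h | ⟨h8, -, h25⟩
    · exact absurd h h4
    · exact absurd h h9
    · rcases Nat.even_or_odd q with he | ho
      · have := hm_even he; omega
      · have := h25 ho; omega
  have hm3 : 3 ≤ m := by
    rcases Nat.even_or_odd q with he | ho
    · have := hm_even he; omega
    · obtain ⟨j, hj⟩ := ho
      rcases hcases with h | h | h <;> omega
  have hord5 : q = 4 ∨ q = 9 → ∃ u : H, orderOf u = 5 := fun h =>
    ⟨⟨_, H.mul_mem haH hbH⟩, by rw [Subgroup.orderOf_mk, ha, hb, ← map_mul]; exact hsmall h⟩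
  have hz2 : (z : F) * z ≠ 1 := fun e => by
    have hzz : z ^ 2 = 1 := Units.ext (by rw [Units.val_pow_eq_pow_val, sq, e, Units.val_one])
    have ho : orderOf z = q - 1 := by
      rw [orderOf_eq_card_of_forall_mem_zpowers hz, Nat.card_eq_fintype_card, Fintype.card_units]
    have := Nat.le_of_dvd (by norm_num) (ho ▸ orderOf_dvd_of_pow_eq_one hzz : q - 1 ∣ 2)
    omega
  -- the two cyclic subgroups meet trivially
  have hdis : Disjoint (Subgroup.zpowers a) (Subgroup.zpowers b) := by
    rw [Subgroup.disjoint_def]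
    intro x hx hx'
    obtain ⟨i, rfl⟩ := (mem_powers_iff_mem_zpowers.2 hx : x ∈ Submonoid.powers a)
    obtain ⟨j, hj⟩ := (mem_powers_iff_mem_zpowers.2 hx' : a ^ i ∈ Submonoid.powers b)
    dsimp only at hj ⊢
    rw [ha, ← map_pow]
    refine pow_neg_or_one hc hz2 ?_
    have h01 : (w ^ j).1 0 1 = 0 := by
      rw [hw, ← map_pow]
      exact hφ01 _ (vT_pow z c j).1
    simp only [ha, hb, ← map_pow] at hj
    rw [KleinPSL.pi_eq_iff] at hj
    rcases hj with e | e
    · rw [← hv, ← e, h01]
    · have e' : v ^ i = -(w ^ j) := by rw [e, neg_neg]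
      rw [← hv, e', Matrix.SpecialLinearGroup.coe_neg, Matrix.neg_apply, h01, neg_zero]
  have hmb : orderOf b = m := by
    rw [hb, hw, hm, ha]
    refine orderOf_eq_orderOf_iff.2 fun k => ?_
    simp only [← map_pow]
    rw [KleinPSL.pi_eq_one, KleinPSL.pi_eq_one]
    have hn : φ (-1 : SL(2, F)) = -1 := hφn
    constructor <;> rintro (e | e)
    · exact Or.inl (by rw [← hφφ (v ^ k), e, map_one])
    · exact Or.inr (by rw [← hφφ (v ^ k), e, hn])
    · exact Or.inl (by rw [e, map_one])
    · exact Or.inr (by rw [e, hn])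
  have hbig : m * m ≤ Nat.card H := by
    let f : Subgroup.zpowers a × Subgroup.zpowers b → H := fun x =>
      ⟨x.1.1 * x.2.1, H.mul_mem ((Subgroup.zpowers_le.2 haH) x.1.2) ((Subgroup.zpowers_le.2 hbH) x.2.2)⟩
    have hf : Function.Injective f := fun x y h =>
      Subgroup.mul_injective_of_disjoint hdis (congrArg Subtype.val h)
    calc m * m = Nat.card (Subgroup.zpowers a × Subgroup.zpowers b) := by
          rw [Nat.card_prod, Nat.card_zpowers, Nat.card_zpowers, hmb, hm]
      _ ≤ _ := Nat.card_le_card_of_injective f hf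
  have horda : orderOf (⟨a, haH⟩ : H) = m := by rw [Subgroup.orderOf_mk]
  suffices hH : H = ⊤ by
    have hlift : ∀ g : SL(2, F), g ∈ K ∨ -g ∈ K := fun g => by
      obtain ⟨y, hy, e⟩ := (show KleinPSL.pi F g ∈ H from hH ▸ Subgroup.mem_top _)
      rcases KleinPSL.pi_eq_iff.1 e with e | e
      · exact Or.inl (e ▸ hy)
      · exact Or.inr (e ▸ hy)
    have hneg : (-1 : SL(2, F)) ∈ K := by
      rcases hlift stEl with h | h
      · exact st_sq (F := F) ▸ K.mul_mem h h
      · have := K.mul_mem h h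
        rwa [neg_mul_neg, st_sq] at this
    refine eq_top_iff.2 fun g _ => ?_
    rcases hlift g with h | h
    · exact h
    · simpa using K.mul_mem hneg h
  by_contra hH
  rcases DicksonList.classify p H with ⟨g, -, -, hg⟩ | ⟨x, -, hfix⟩ | ⟨⟨e⟩⟩ | ⟨⟨e⟩⟩ | ⟨⟨e⟩⟩ | ⟨k, _, _, r, hr, hk⟩
  · -- commuting
    have hsq : ∀ u : PG, orderOf u = m → u * u ≠ 1 := fun u hu h => by
      have := Nat.le_of_dvd (by norm_num) (hu ▸ orderOf_dvd_of_pow_eq_one (by rw [sq, h]) : m ∣ 2)
      omega
    have hcomm := DicksonMax.comm_of_dihedral H hg haH hbH (hsq a rfl) (hsq b hmb)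
    rw [ha, hb, hw, hv] at hcomm
    refine hnc (fun hzz => ?_) hcomm
    have ho : orderOf z = q - 1 := by
      rw [orderOf_eq_card_of_forall_mem_zpowers hz, Nat.card_eq_fintype_card, Fintype.card_units]
    have hd : q - 1 ∣ 4 := ho ▸ orderOf_dvd_of_pow_eq_one hzz
    exact num_comm hcases hd
  · -- a common fixed point
    exact hnf x (hfix a haH) (hfix b hbH)
  · -- degree four
    by_cases h49 : q = 4 ∨ q = 9
    · obtain ⟨u, hu⟩ := hord5 h49
      rcases alt4_exp' (e u) with he | he <;> have := hu ▸ exp_transfer e he <;> omega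
    · have := hm6 (fun h => h49 (Or.inl h)) (fun h => h49 (Or.inr h))
      rcases alt4_exp' (e ⟨a, haH⟩) with he | he <;>
        have := Nat.le_of_dvd (by norm_num) (horda ▸ exp_transfer e he) <;> omega
  · by_cases h49 : q = 4 ∨ q = 9
    · obtain ⟨u, hu⟩ := hord5 h49
      rcases perm4_exp (e u) with he | he | he <;> have := hu ▸ exp_transfer e he <;> omega
    · have := hm6 (fun h => h49 (Or.inl h)) (fun h => h49 (Or.inr h))
      rcases perm4_exp (e ⟨a, haH⟩) with he | he | he <;>
        have := Nat.le_of_dvd (by norm_num) (horda ▸ exp_transfer e he) <;> omega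
  · have h60 : Nat.card H = 60 := by
      rw [Nat.card_congr e.toEquiv, nat_card_alternatingGroup, Nat.card_fin]
      decide
    have h5 : m ∣ 2 ∨ m ∣ 3 ∨ m ∣ 5 := by
      rw [← horda]
      rcases alt5_exp' (e ⟨a, haH⟩) with he | he | he
      · exact Or.inl (exp_transfer e he)
      · exact Or.inr (Or.inl (exp_transfer e he))
      · exact Or.inr (Or.inr (exp_transfer e he))
    have hle : m ≤ 5 := num_five h5
    by_cases h4 : q = 4
    · refine hH (Subgroup.eq_top_of_card_eq H ?_)
      have hG := DicksonCor.gcd_mul_natCard (F := F)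
      rw [← hqdef, h4] at hG
      norm_num at hG
      rw [h60, Nat.card_eq_fintype_card, hG]
    · by_cases h9 : q = 9
      · have h8 : 8 ∣ 2 * m := by rw [← hqdef, h9] at hm2; simpa using hm2
        exact num_eight h5 h8
      · have := hm6 h4 h9
        omega
  · -- a smaller field
    obtain ⟨hr2, hle⟩ := DicksonCor.subfield_bound H hH k r hr hk
    set s := Fintype.card k with hs
    have hs2 : 2 ≤ s := Fintype.one_lt_card
    rw [← hqdef] at hr
    have hsq : s * s ≤ q := by
      rw [← hr, ← sq]; exact Nat.pow_le_pow_right (by omega) hr2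
    have hkey : m * m ≤ s * ((s - 1) * (s + 1)) := hbig.trans hle
    rcases hodd_big with h | h | ⟨h, -, h25⟩
    · obtain ⟨u, hu⟩ := hord5 (Or.inl h)
      have : s = 2 := num_four hm3 hs2 (h ▸ hsq)
      rw [this] at hle
      have h5 : 5 ∣ Nat.card H := hu ▸ orderOf_dvd_natCard u
      have h3 : m ∣ Nat.card H := horda ▸ orderOf_dvd_natCard _
      have hmm : m = 3 := by
        have hev : Even q := ⟨2, by omega⟩
        have := hm_even hev
        have hm' : m ≤ 6 := (Nat.le_of_dvd Nat.card_pos h3).trans (hle.trans (by norm_num))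
        have hh := hbig.trans hle
        interval_cases m <;> omega
      rw [hmm] at h3
      have := Nat.le_of_dvd Nat.card_pos (Nat.Coprime.mul_dvd_of_dvd_of_dvd (by norm_num : Nat.Coprime 5 3) h5 h3)
      omega
    · obtain ⟨u, hu⟩ := hord5 (Or.inr h)
      have hs3 : s = 3 := by
        have : s ≤ 3 := num_nine (h ▸ hsq)
        rcases (show s = 2 ∨ s = 3 by omega) with e2 | e3
        · exfalso
          rw [e2, h] at hr
          have : 2 ∣ 9 := hr ▸ dvd_pow_self 2 (by omega)
          omega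
        · exact e3
      have h5 : 5 ∣ Nat.card H := hu ▸ orderOf_dvd_natCard u
      have hcardK := Classical.SmallIso.natCard_pslTwo k
      rw [Classical.GL2.natCard_SL_two, ← hs, hs3] at hcardK
      have h1224 : Nat.card H = 12 ∨ Nat.card H = 24 := by
        rcases hk with ⟨⟨e⟩⟩ | ⟨⟨e⟩⟩
        · left; rw [Nat.card_congr e.toEquiv]; norm_num at hcardK ⊢; omega
        · right
          rw [Nat.card_congr e.toEquiv, Classical.Linear.natCard_PGL, Classical.GL2.natCard_SL_two, ← hs, hs3]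
      omega
    · rcases Nat.even_or_odd q with he | ho
      · exact num_even h (hm_even he) hs2 hsq hkey
      · exact num_odd (h25 ho) hm_ge hs2 hsq hkey

/-- The swapped twin. -/
theorem gen_of (p : ℕ) [Fact p.Prime] [CharP F p] {z : Fˣ} (hz : ∀ x : Fˣ, x ∈ Subgroup.zpowers z) {c : F}
    (hc : c ≠ 0) (hcd : c * c ≠ ((z : F)⁻¹ - z) * ((z : F)⁻¹ - z))
    (hnp : ∃ l, 2 ≤ l ∧ Fintype.card F = p ^ l)
    (hsmall : Fintype.card F = 4 ∨ Fintype.card F = 9 →
      orderOf (KleinPSL.pi F (vT z c * sw (vT z c))) = 5) :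
    Subgroup.closure ({vT z c, sw (vT z c)} : Set SL(2, F)) = ⊤ :=
  gen_core p hz hc sw sw_sw
    (mat_ext (by ext i j; fin_cases i <;> fin_cases j <;> simp [coe_sw, Matrix.SpecialLinearGroup.coe_neg]))
    (fun X h => by rw [coe_sw]; simpa using h) (not_comm hc) (not_fixed hc hcd) hnp hsmall

variable (F) in
/-- One matrix and its twin generate. -/
theorem exists_swapped : ∃ v : SL(2, F), Subgroup.closure ({v, sw v} : Set SL(2, F)) = ⊤ := by
  classical
  obtain ⟨p, hpc⟩ := CharP.exists F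
  haveI := hpc
  haveI hpf : Fact p.Prime := ⟨CharP.char_is_prime F p⟩
  obtain ⟨l, -, hl⟩ := FiniteField.card F p
  by_cases h1 : (l : ℕ) = 1
  · refine ⟨uniSL 1, ?_⟩
    have hsw : sw (uniSL (1 : F)) = lowSL 1 := mat_ext (by
      ext i j; fin_cases i <;> fin_cases j <;> simp [coe_sw, coe_uniSL, coe_lowSL])
    rw [hsw]
    set K := Subgroup.closure ({uniSL (1 : F), lowSL 1} : Set SL(2, F))
    have hnat : ∀ c : F, ∃ k : ℕ, (k : F) = c := by
      intro c
      have hb : Function.Bijective (fun x : ZMod p => (ZMod.castHom dvd_rfl F x : F)) := by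
        refine (Fintype.bijective_iff_injective_and_card _).2 ⟨(ZMod.castHom dvd_rfl F).injective, ?_⟩
        rw [ZMod.card, hl, h1, pow_one]
      obtain ⟨x, hx⟩ := hb.2 c
      exact ⟨x.val, by rw [← hx]; simp⟩
    have hu : ∀ k : ℕ, uniSL (k : F) ∈ K ∧ lowSL (k : F) ∈ K := by
      intro k
      induction k with
      | zero =>
        refine ⟨by rw [Nat.cast_zero, uniSL_zero]; exact one_mem _, ?_⟩
        convert one_mem K
        exact mat_ext (by ext i j; fin_cases i <;> fin_cases j <;> simp [coe_lowSL])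
      | succ k ih =>
        refine ⟨?_, ?_⟩
        · rw [Nat.cast_succ, ← uniSL_mul]; exact K.mul_mem ih.1 (Subgroup.subset_closure (Or.inl rfl))
        · have : lowSL ((k + 1 : ℕ) : F) = lowSL (k : F) * lowSL 1 := mat_ext (by
            ext i j; fin_cases i <;> fin_cases j <;> simp [coe_lowSL, Matrix.mul_apply, Fin.sum_univ_two])
          rw [this]; exact K.mul_mem ih.2 (Subgroup.subset_closure (Or.inr rfl))
    refine Classical.Linear.eq_top_of_transvection_mem K fun i j hij c => ?_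
    obtain ⟨k, rfl⟩ := hnat c
    fin_cases i <;> fin_cases j <;> first | exact absurd rfl hij | skip
    · convert (hu k).1
      refine mat_ext ?_
      rw [coe_uniSL]
      ext a b; fin_cases a <;> fin_cases b <;> simp [Matrix.SpecialLinearGroup.transvection, Matrix.transvection]
    · convert (hu k).2
      refine mat_ext ?_
      rw [coe_lowSL]
      ext a b; fin_cases a <;> fin_cases b <;> simp [Matrix.SpecialLinearGroup.transvection, Matrix.transvection]
  have hl2 : 2 ≤ (l : ℕ) := by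
    have := l.pos
    omega
  obtain ⟨z, hz⟩ := IsCyclic.exists_generator (α := Fˣ)
  have ho : orderOf z = Fintype.card F - 1 := by
    rw [orderOf_eq_card_of_forall_mem_zpowers hz, Nat.card_eq_fintype_card, Fintype.card_units]
  by_cases h49 : Fintype.card F = 4 ∨ Fintype.card F = 9
  · have key : ((z : F)⁻¹ - z) * ((z : F)⁻¹ - z) ≠ (z : F) * z ∧
        (2 + (z : F) * z) ^ 4 - 3 * (2 + (z : F) * z) ^ 2 + 1 = 0 ∧
        (2 + (z : F) * z) ^ 3 - 2 * (2 + (z : F) * z) = 1 := by
      have hzi := mul_inv_cancel₀ z.ne_zero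
      have hchar : ∀ r : ℕ, r.Prime → ∀ k, Fintype.card F = r ^ k → (r : F) = 0 := by
        intro r hr k hk
        have : p = r := by
          rw [hl] at hk
          have hd : p ∣ r ^ k := hk ▸ dvd_pow_self p l.ne_zero
          exact (Nat.prime_dvd_prime_iff_eq hpf.out hr).1 (hpf.out.dvd_of_dvd_pow hd)
        subst this
        exact CharP.cast_eq_zero F p
      rcases h49 with h | h
      · have h2 : (2 : F) = 0 := by exact_mod_cast hchar 2 Nat.prime_two 2 (by rw [h]; norm_num)
        have h3 : (z : F) ^ 3 = 1 := by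
          rw [← Units.val_pow_eq_pow_val, ← Units.val_one]
          exact congrArg Units.val (orderOf_dvd_iff_pow_eq_one.1 (by rw [ho, h]))
        have hne : (z : F) ≠ 1 := fun e => by
          have : orderOf z = 1 := orderOf_eq_one_iff.2 (Units.ext e)
          omega
        have hq : (z : F) ^ 2 + z + 1 = 0 := by
          have : ((z : F) - 1) * ((z : F) ^ 2 + z + 1) = 0 := by linear_combination h3
          exact (mul_eq_zero.1 this).resolve_left (sub_ne_zero.2 hne)
        have hinv : (z : F)⁻¹ = (z : F) ^ 2 := inv_eq_of_mul_eq_one_right (by linear_combination h3)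
        refine ⟨fun e => ?_, ?_, ?_⟩
        · rw [hinv] at e
          have : (z : F) ^ 4 = 0 := by linear_combination e + (z : F) ^ 3 * h2
          exact z.ne_zero (eq_zero_of_pow_eq_zero this)
        · linear_combination ((z : F) ^ 2 - z + 1) * ((z : F) ^ 4 - (z : F) ^ 2 + 1) * hq +
            (2 + 10 * ((z : F) * z) + 10 * ((z : F) * z) ^ 2 + 4 * ((z : F) * z) ^ 3) * h2
        · linear_combination ((z : F) ^ 3 + 1) * ((z : F) - 1) * hq +
            (3 * ((z : F) * z) ^ 2 + 5 * ((z : F) * z) + 2) * h2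
      · have h3 : (3 : F) = 0 := by exact_mod_cast hchar 3 Nat.prime_three 2 (by rw [h]; norm_num)
        have h8 : (z : F) ^ 8 = 1 := by
          rw [← Units.val_pow_eq_pow_val, ← Units.val_one]
          exact congrArg Units.val (orderOf_dvd_iff_pow_eq_one.1 (by rw [ho, h]))
        have h4 : (z : F) ^ 4 = -1 := by
          have : ((z : F) ^ 4 - 1) * ((z : F) ^ 4 + 1) = 0 := by linear_combination h8
          rcases mul_eq_zero.1 this with e | e
          · exfalso
            have hh : z ^ 4 = 1 := Units.ext (by rw [Units.val_pow_eq_pow_val, Units.val_one]; linear_combination e)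
            have := Nat.le_of_dvd (by norm_num) (orderOf_dvd_of_pow_eq_one hh)
            omega
          · linear_combination e
        have hinv : (z : F)⁻¹ = -(z : F) ^ 3 := inv_eq_of_mul_eq_one_right (by linear_combination -h4)
        refine ⟨fun e => ?_, ?_, ?_⟩
        · rw [hinv] at e
          have hw : (z : F) ^ 2 = 1 := by linear_combination -e + ((z : F) ^ 2 + 2) * h4 - h3
          have h2 : (2 : F) = 0 := by linear_combination h4 - ((z : F) ^ 2 + 1) * hw
          exact one_ne_zero (α := F) (by linear_combination h3 - h2)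
        · linear_combination (((z : F) * z) ^ 2 + 8 * ((z : F) * z) + 20) * h4 + (4 * ((z : F) * z) - 5) * h3
        · linear_combination ((z : F) * z + 6) * h4 + (3 * ((z : F) * z) - 1) * h3
    refine ⟨vT z (z : F), gen_of p hz z.ne_zero (fun e => key.1 e.symm) ⟨l, hl2, hl⟩ fun _ => ?_⟩
    refine orders_five (t := 2 + (z : F) * z) ?_ key.2.1 key.2.2 ?_
    · rw [(mul_sw z (z : F)).1]
      simp
      ring
    · rw [(mul_sw z (z : F)).1]
      simp
  · set δ := (z : F)⁻¹ - z
    obtain ⟨c, -, hc⟩ := Finset.exists_mem_notMem_of_card_lt_card (s := ({0, δ, -δ} : Finset F)) (t := Finset.univ)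
      (lt_of_le_of_lt Finset.card_le_three (by
        rw [Finset.card_univ, hl]
        calc 3 < 2 ^ 2 := by norm_num
          _ ≤ p ^ 2 := Nat.pow_le_pow_left hpf.out.two_le 2
          _ ≤ p ^ (l : ℕ) := Nat.pow_le_pow_right hpf.out.pos hl2))
    simp only [Finset.mem_insert, Finset.mem_singleton, not_or] at hc
    refine ⟨vT z c, gen_of p hz hc.1 (fun e => ?_) ⟨l, hl2, hl⟩ fun h => absurd h h49⟩
    have : (c - δ) * (c + δ) = 0 := by linear_combination e
    rcases mul_eq_zero.1 this with e | e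
    · exact hc.2.1 (sub_eq_zero.1 e)
    · exact hc.2.2 (eq_neg_of_add_eq_zero_left e)

end Cfsg.Agent.ShortPres.Joint
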